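import Groth.Agent.EtProperH0Lib.SepFibres
import Groth.Agent.EtProperH0Lib.UnitIsoAb
import Groth.Agent.AbSchLib.Flat
import Groth.Agent.S3510

/-!
# Smooth morphisms are locally 0-acyclic for abelian torsion sheaves
-/

set_option autoImplicit false
set_option linter.style.haveILetI false
set_option backward.isDefEq.respectTransparency false
set_option backward.isDefEq.respectTransparency.types false
universe u

open CategoryTheory CategoryTheory.Limits AlgebraicGeometry IsLocalRing Groth.Agent.EtShLib

namespace EtCurveConsLib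

open EtProperH0Lib

theorem submConn_sh {X S : Scheme.{u}} (f : X ⟶ S) [Flat f] (x : X) (RS : Type u)
    [CommRing RS] [IsLocalRing RS] [Algebra (S.presheaf.stalk (f.base x)) RS]
    [IsLocalHom (algebraMap (S.presheaf.stalk (f.base x)) RS)]
    [Hensel.IsStrictHenselization (S.presheaf.stalk (f.base x)) RS]
    (RX : Type u) [CommRing RX] [IsLocalRing RX] [Algebra (X.presheaf.stalk x) RX]
    [IsLocalHom (algebraMap (X.presheaf.stalk x) RX)] [Hensel.IsStrictHenselization (X.presheaf.stalk x) RX]
    (ψ : RS →+* RX)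
    (hψ : ψ.comp (algebraMap (S.presheaf.stalk (f.base x)) RS) =
      (algebraMap (X.presheaf.stalk x) RX).comp (f.stalkMap x).hom)
    (hconn : ∀ (Ω : Type u) [Field Ω] [IsAlgClosed Ω] (η : Spec (CommRingCat.of Ω) ⟶ Spec (CommRingCat.of RS)),
      ConnectedSpace ↥(pullback (Spec.map (CommRingCat.ofHom ψ)) η)) :
    SubmConn (Spec.map (CommRingCat.ofHom ψ)) := by
  haveI : Algebra.WeaklyEtale (S.presheaf.stalk (f.base x)) RS :=
    Groth.Agent.S0736.result _ _ (Groth.Agent.S12237.result (S.presheaf.stalk (f.base x)) RS)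
  haveI : Algebra.WeaklyEtale (X.presheaf.stalk x) RX :=
    Groth.Agent.S0736.result _ _ (Groth.Agent.S12237.result (X.presheaf.stalk x) RX)
  exact ⟨fun S' a => quotientMap_of_flat ψ
    (flat_of_weaklyEtale (f.stalkMap x).hom (Flat.stalkMap f x) ψ hψ) (surjective_of_conn _ hconn) S' a, hconn⟩

/-- Smooth morphisms are locally 0-acyclic for every set of primes. -/
theorem isLocAcyclicN_zero_of_smooth {X S : Scheme.{u}} (f : X ⟶ S) [Smooth f] (L : Set ℕ) :
    EtAcyc.IsLocAcyclicN f L 0 := by
  haveI : GeometricallyReduced f := AbSchLib.geometricallyReduced_of_smooth f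
  intro x RY RX _ _ _ _ _ _ _ _ _ _ _ _ hψ
  refine (Groth.Agent.S3510.result _ L 0).2 fun V F _ => ⟨?_, fun q h1 h2 => absurd h2 (by omega)⟩
  have h := submConn_sh f x RY RX (algebraMap RY RX) hψ fun Ω _ _ η =>
    connected_sh_fibre f (Or.inr inferInstance) x RY RX (algebraMap RY RX) hψ Ω η
  exact isIso_unit_of_submConn_ab _ (h.pullback_fst V.hom) F

end EtCurveConsLib
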