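import Groth.Agent.EtShLib.ConsCriterion

/-!
# Constructibility from injectivity of one specialisation arrow for each pair of points
-/

set_option autoImplicit false
set_option linter.all false
set_option backward.isDefEq.respectTransparency false
set_option backward.isDefEq.respectTransparency.types false
set_option synthInstance.maxHeartbeats 400000
set_option maxHeartbeats 1000000

universe u

open CategoryTheory CategoryTheory.Limits AlgebraicGeometry Opposite Topology TopologicalSpace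
open Groth.Agent.EtShLib

namespace EtCurveConsLib

variable {X : Scheme.{u}} [IsLocallyNoetherian X]

theorem exists_lc_open_of_exists_mono (F : EtCoh.Ab X)
    (hfin : ∀ (Ω : Type u) [Field Ω] [IsSepClosed Ω] (ξ : Spec (CommRingCat.of Ω) ⟶ X),
      Finite ((EtCoh.stalk ξ).obj F))
    (hmono : ∀ (Ω Ω' : Type u) [Field Ω] [IsSepClosed Ω] [Field Ω'] [IsSepClosed Ω']
        (ξ : Spec (CommRingCat.of Ω) ⟶ X) (ξ' : Spec (CommRingCat.of Ω') ⟶ X),
        ξ'.base default ⤳ ξ.base default → ∃ φ : Scheme.pointSmallEtale ξ' ⟶ Scheme.pointSmallEtale ξ,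
        Mono ((GrothendieckTopology.Point.Hom.sheafFiber (A := AddCommGrpCat.{u + 1}) φ).app F)) (x : X) :
    ∃ (V : X.Opens) (T : Scheme.{u}) (g : T ⟶ X), IsImmersion g ∧ x ∈ V ∧
      Set.range g.base = (V : Set X) ∩ closure {x} ∧ PullLC (A := AddCommGrpCat.{u + 1}) FinP F g := by
  obtain ⟨Ω, _, _, ξ, hξ⟩ := exists_geometric_pt x
  haveI hM : Finite ((stk (A := AddCommGrpCat.{u + 1}) ξ).obj F) := hfin Ω ξ
  haveI : AlgebraicGeometry.Etale (EtCoh.top X).hom := (EtCoh.top X).prop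
  obtain ⟨u₀⟩ := exists_fib_of_range ξ (U := EtCoh.top X) ⟨ξ.base default, rfl⟩
  obtain ⟨V₁, -, v₁, σ, -, hσ⟩ := lifts_Ab (M := (stk (A := AddCommGrpCat.{u + 1}) ξ).obj F) F ξ (EtCoh.top X) u₀ (𝟙 _)
  obtain ⟨V₂, j, v₂, hv₂, hq⟩ := exists_specializing_closure ξ V₁ v₁
  let σ₂ := σ ≫ F.obj.map j.op
  have hinj : ∀ {Ω' : Type u} [Field Ω'] [IsSepClosed Ω'] (ζ : Spec (CommRingCat.of Ω') ⟶ X) (z : Fib ζ V₂),
      x ⤳ ζ.base default → Function.Injective (σ₂ ≫ germ ζ F V₂ z) := by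
    intro Ω' _ _ ζ z hz a b hab
    rw [ConcreteCategory.comp_apply, ConcreteCategory.comp_apply] at hab
    obtain ⟨Y, g, w, -, he⟩ := (germ_eq_iff ζ V₂ z _ _).1 hab
    obtain ⟨q, hqv⟩ := hq Y g w.pt (by
      rw [show Y.hom.base w.pt = ζ.base default from congrArg (fun t : Spec (CommRingCat.of Ω') ⟶ X => t.base default) w.w, hξ]
      exact hz)
    have := congrArg (germ ξ F Y q) he
    have hr : ∀ c, germ ξ F Y q (F.obj.map g.op c) = germ ξ F V₂ v₂ c := fun c => by rw [germ_res_apply, hqv]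
    rw [hr, hr] at this
    replace this : (σ₂ ≫ germ ξ F V₂ v₂) a = (σ₂ ≫ germ ξ F V₂ v₂) b := this
    have e : σ₂ ≫ germ ξ F V₂ v₂ = 𝟙 _ := by
      simp only [σ₂, Category.assoc]
      rw [germ_res, hv₂, hσ]
    rw [e] at this
    simpa using this
  obtain ⟨T₀, g₀, hg₀, -, hr₀⟩ := exists_reduced_immersion (X := X) (E := Set.range V₂.hom.base ∩ closure {x})
    ((isOpen_range_etale V₂).isLocallyClosed.inter isClosed_closure.isLocallyClosed)
  refine ⟨⟨Set.range V₂.hom.base, isOpen_range_etale V₂⟩, T₀, g₀, hg₀,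
    ⟨v₂.pt, (congrArg (fun t : Spec (CommRingCat.of Ω) ⟶ X => t.base default) v₂.w).trans hξ⟩, hr₀, fun t => ?_⟩
  have ht : g₀.base t ∈ Set.range V₂.hom.base ∩ closure {x} := hr₀ ▸ ⟨t, rfl⟩
  obtain ⟨y, hy⟩ := ht.1
  obtain ⟨q, -, hq'⟩ := Scheme.Pullback.exists_preimage_pullback (f := V₂.hom) (g := g₀) y t hy
  refine ⟨(EtCoh.bc g₀).obj V₂, q, _, σ₂ ≫ ((adjA g₀ AddCommGrpCat.{u + 1}).unit.app F).hom.app (op V₂), hq', hM,
    fun Ω' _ _ ζ' z' => ?_⟩
  let ζ := ζ' ≫ g₀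
  let z : Fib ζ V₂ := z'.proj g₀ ζ'
  have hz : x ⤳ ζ.base default :=
    specializes_iff_mem_closure.2 (show g₀.base (ζ'.base default) ∈ closure {x} from
      ((show g₀.base (ζ'.base default) ∈ Set.range V₂.hom.base ∩ closure {x} from hr₀ ▸ ⟨_, rfl⟩)).2)
  haveI : IsIso (σ₂ ≫ germ ζ F V₂ z) := by
    rw [← isIso_iff_of_reflects_iso _ (forget AddCommGrpCat.{u + 1}), isIso_iff_bijective]
    refine ⟨hinj ζ z hz, fun p => ?_⟩
    obtain ⟨Y, g, w, s, hw, rfl⟩ := exists_germ_below (A := AddCommGrpCat.{u + 1}) ζ p V₂ z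
    obtain ⟨φ, hφ⟩ := hmono Ω' Ω ζ ξ (by rw [hξ]; exact hz)
    let w' : Fib ξ Y := φ.hom.app Y w
    have hb : Function.Bijective (σ₂ ≫ germ ξ F V₂ (w'.map g)) :=
      (Finite.injective_iff_bijective (f := (σ₂ ≫ germ ξ F V₂ (w'.map g)))).1 (hinj ξ _ (by rw [hξ]))
    obtain ⟨m, hm⟩ := hb.2 (germ ξ F Y w' s)
    refine ⟨m, ?_⟩
    apply (AddCommGrpCat.mono_iff_injective _).1 hφ
    show (GrothendieckTopology.Point.Hom.sheafFiber (A := AddCommGrpCat.{u + 1}) φ).app F ((σ₂ ≫ germ ζ F V₂ z) m) = _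
    rw [sheafFiber_germ, ← hm, ConcreteCategory.comp_apply, ConcreteCategory.comp_apply, ← hw, ← germ_res_apply,
      sheafFiber_germ, germ_res_apply]
    simp only [σ₂, ConcreteCategory.comp_apply]
    rfl
  have e := germ_stalkPull g₀ ζ' AddCommGrpCat.{u + 1} F V₂ z
  rw [show z.lift g₀ ζ' = z' from Fib.lift_proj g₀ ζ' z'] at e
  rw [Category.assoc, ← e, ← Category.assoc]
  infer_instance

/-- Finite stalks and one injective specialisation map for each specialisation give constructibility. -/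
theorem isConstructible_of_exists_mono (F : EtCoh.Ab X)
    (hfin : ∀ (Ω : Type u) [Field Ω] [IsSepClosed Ω] (ξ : Spec (CommRingCat.of Ω) ⟶ X),
      Finite ((EtCoh.stalk ξ).obj F))
    (hmono : ∀ (Ω Ω' : Type u) [Field Ω] [IsSepClosed Ω] [Field Ω'] [IsSepClosed Ω']
        (ξ : Spec (CommRingCat.of Ω) ⟶ X) (ξ' : Spec (CommRingCat.of Ω') ⟶ X),
        ξ'.base default ⤳ ξ.base default → ∃ φ : Scheme.pointSmallEtale ξ' ⟶ Scheme.pointSmallEtale ξ,
        Mono ((GrothendieckTopology.Point.Hom.sheafFiber (A := AddCommGrpCat.{u + 1}) φ).app F)) :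
    EtPBC.IsConstructible F :=
  (isConstructible_iff F).2 (isCons_of_closures F (exists_lc_open_of_exists_mono F hfin hmono))

end EtCurveConsLib
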