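import Groth.Agent.ConsLib.PairProper
import Groth.Agent.ConsLib.General
import Groth.Agent.RichLib.LimitDescentFlat
import Groth.Agent.DepthLib.SmoothBCScheme
import Groth.Agent.FibDimLib.Semicont
import Groth.Agent.FibDimLib.FieldExt
import Groth.Agent.GISpreadLib.GeomProp
import Groth.Agent.SecNhdLib.ProperFibres
import Groth.Agent.SmoothCritLib.Point
import Groth.Agent.EtPBCCdLib.Dim
import Groth.Agent.AbSchLib.Flat
import Groth.Agent.S5935

/-!
# Noetherian models of families of curves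
-/

set_option autoImplicit false
set_option linter.all false
set_option backward.isDefEq.respectTransparency false
set_option backward.isDefEq.respectTransparency.types false
set_option maxHeartbeats 1000000

universe u

open CategoryTheory CategoryTheory.Limits AlgebraicGeometry RichLib.LimBC Groth.Agent

noncomputable section

namespace EtCurveConsLib

theorem one_le_of_pos (d : WithBot ℕ∞) (h : 0 < d) : 1 ≤ d := by
  induction d with
  | bot => exact absurd h (not_lt_bot)
  | coe n =>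
    have h' : (0 : ℕ∞) < n := WithBot.coe_lt_coe.1 h
    exact WithBot.coe_le_coe.2 (Order.one_le_iff_pos.2 h')

/-- A proper flat Noetherian model. -/
theorem exists_proper_flat_model {X S : Scheme.{u}} [IsAffine S] (f : X ⟶ S) [IsProper f] [Flat f]
    [LocallyOfFinitePresentation f] :
    ∃ (X₀ S₀ : Scheme.{u}) (f₀ : X₀ ⟶ S₀) (q : S ⟶ S₀) (p : X ⟶ X₀),
      IsNoetherian S₀ ∧ IsProper f₀ ∧ Flat f₀ ∧ LocallyOfFinitePresentation f₀ ∧ IsPullback p f f₀ q := by
  let A := ConsLib.zSys (Γ(S, ⊤) : Type u)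
  haveI : ∀ i j (a : i ⟶ j), IsAffineHom (A.D.map a) := fun _ _ a => A.affine_map a
  haveI : ∀ i, IsNoetherian (A.D.obj i) := fun i => ConsLib.zSys_obj _ i
  let e : S ≅ A.c.pt := S.isoSpec ≪≫ (ConsLib.zSysIso _).symm
  obtain ⟨i, ⟨N⟩⟩ := DescFP.exists_model A.hc (f ≫ e.hom)
  let B := ofStage A.D A.c A.hc i
  haveI := N.lfp
  haveI := N.qc
  haveI := N.qs
  have hlim : ∀ (P : MorphismProperty Scheme.{u}) [P.RespectsIso], P f → AtLim B N.p P := fun P _ hf => by
    show P (pullback.snd N.p (A.c.π.app i))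
    rw [← N.sq.isoPullback_inv_snd]
    exact (MorphismProperty.cancel_left_of_respectsIso P _ _).mpr
      ((MorphismProperty.cancel_right_of_respectsIso P f e.hom).mpr hf)
  obtain ⟨φ₁, h₁⟩ := exists_at_flat B N.p (hlim @Flat ‹Flat f›)
  obtain ⟨φ₂, h₂⟩ := ConsLib.exists_at_isProper B N.p (hlim @IsProper ‹IsProper f›)
  obtain ⟨φ, a₁, a₂, -⟩ := IsCofilteredOrEmpty.cone_objs φ₁ φ₂
  let f₀ := pullback.snd N.p (A.D.map φ.hom)
  refine ⟨_, _, f₀, e.hom ≫ A.c.π.app φ.left, N.sq.isoPullback.hom ≫ pbπ B N.p φ, inferInstance,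
    at_of_hom B N.p a₂ h₂, at_of_hom B N.p a₁ h₁, MorphismProperty.pullback_snd _ _ inferInstance, ?_⟩
  refine (isPullback_cone B N.p φ).of_iso N.sq.isoPullback.symm (Iso.refl _) e.symm (Iso.refl _) ?_ ?_ ?_ ?_
  · exact (Category.comp_id _).trans (Iso.inv_hom_id_assoc _ _).symm
  · rw [Iso.symm_hom, Iso.symm_hom, Iso.eq_inv_comp, ← Category.assoc, Iso.comp_inv_eq]
    exact N.sq.isoPullback_hom_snd
  · exact (Category.comp_id _).trans (Category.id_comp _).symm
  · exact (Category.comp_id _).trans (Iso.inv_hom_id_assoc _ _).symm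

/-- Restriction of a model to an open containing the image. -/
theorem exists_restrict {X S X₀ S₀ : Scheme.{u}} {f : X ⟶ S} {f₀ : X₀ ⟶ S₀} {q : S ⟶ S₀} {p : X ⟶ X₀}
    (sq : IsPullback p f f₀ q) (V : S₀.Opens) (h : ∀ s, q.base s ∈ V) :
    ∃ (q' : S ⟶ (V : Scheme.{u})) (p' : X ⟶ ((f₀ ⁻¹ᵁ V : X₀.Opens) : Scheme.{u})),
      q' ≫ V.ι = q ∧ IsPullback p' f (f₀ ∣_ V) q' := by
  have hr : Set.range q.base ⊆ Set.range V.ι.base := by
    rintro _ ⟨s, rfl⟩
    rw [Scheme.Opens.range_ι]
    exact h s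
  let q' := IsOpenImmersion.lift V.ι q hr
  have hq : q' ≫ V.ι = q := IsOpenImmersion.lift_fac _ _ _
  have sqV := (isPullback_morphismRestrict f₀ V).flip
  refine ⟨q', sqV.lift p (f ≫ q') (by rw [Category.assoc, hq]; exact sq.w), hq, ?_⟩
  refine IsPullback.of_right ?_ (sqV.lift_snd _ _ _) sqV
  rw [sqV.lift_fst, hq]
  exact sq

/-- A Noetherian model which is a family of connected smooth proper curves. -/
theorem exists_curve_model {X S : Scheme.{u}} [IsAffine S] (f : X ⟶ S) [IsProper f] [Smooth f]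
    (hconn : ∀ (Ω : Type u) [Field Ω] [IsAlgClosed Ω] (s : Spec (CommRingCat.of Ω) ⟶ S),
      ConnectedSpace ↥(pullback f s))
    (hdim : ∀ (Ω : Type u) [Field Ω] [IsAlgClosed Ω] (s : Spec (CommRingCat.of Ω) ⟶ S),
      topologicalKrullDim ↥(pullback f s) = 1) :
    ∃ (X₀ S₀ : Scheme.{u}) (f₀ : X₀ ⟶ S₀) (q : S ⟶ S₀) (p : X ⟶ X₀),
      IsLocallyNoetherian S₀ ∧ IsProper f₀ ∧ Smooth f₀ ∧
      (∀ (Ω : Type u) [Field Ω] [IsAlgClosed Ω] (s : Spec (CommRingCat.of Ω) ⟶ S₀),
        ConnectedSpace ↥(pullback f₀ s)) ∧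
      (∀ (Ω : Type u) [Field Ω] [IsAlgClosed Ω] (s : Spec (CommRingCat.of Ω) ⟶ S₀),
        topologicalKrullDim ↥(pullback f₀ s) = 1) ∧ IsPullback p f f₀ q := by
  obtain ⟨X₀, S₀, f₀, q, p, hS₀, hP, hF, hfp, sq⟩ := exists_proper_flat_model f
  haveI := hS₀; haveI := hP; haveI := hF; haveI := hfp
  -- the smooth locus
  let V₁ : S₀.Opens := ⟨(f₀.base '' (f₀.smoothLocus : Set X₀)ᶜ)ᶜ,
    (f₀.isClosedMap _ f₀.smoothLocus.isOpen.isClosed_compl).isOpen_compl⟩
  have hV₁ : ∀ s, q.base s ∈ V₁ := by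
    rintro s ⟨z, hz, hzs⟩
    obtain ⟨w, hw, -⟩ := Scheme.Pullback.exists_preimage_pullback (f := f₀) (g := q) z s hzs
    obtain ⟨x, rfl⟩ := sq.isoPullback.hom.surjective w
    refine hz ?_
    rw [← hw, ← Scheme.Hom.comp_apply, sq.isoPullback_hom_fst]
    have h2 := DepthLib.smoothLocus_eq_preimage f₀ q f p sq (Or.inl ‹_›)
    rw [f.smoothLocus_eq_top] at h2
    exact h2.le (trivial : x ∈ (⊤ : X.Opens))
  obtain ⟨q₁, p₁, hq₁, sq₁⟩ := exists_restrict sq V₁ hV₁
  let f₁ := f₀ ∣_ V₁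
  haveI : IsProper f₁ := MorphismProperty.of_isPullback (P := @IsProper) (isPullback_morphismRestrict f₀ V₁).flip hP
  haveI : LocallyOfFinitePresentation f₁ :=
    MorphismProperty.of_isPullback (P := @LocallyOfFinitePresentation) (isPullback_morphismRestrict f₀ V₁).flip hfp
  haveI : Smooth f₁ := by
    rw [← Scheme.Hom.smoothLocus_eq_top_iff,
      DepthLib.smoothLocus_eq_preimage f₀ V₁.ι f₁ _ (isPullback_morphismRestrict f₀ V₁).flip (Or.inl ‹_›)]
    refine top_unique fun z _ => not_not.1 fun hz => z.2 ⟨_, hz, rfl⟩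
  haveI : IsLocallyNoetherian (V₁ : Scheme.{u}) := isLocallyNoetherian_of_isOpenImmersion V₁.ι
  haveI : GeometricallyReduced f₁ := AbSchLib.geometricallyReduced_of_smooth f₁
  let E : Set (V₁ : Scheme.{u}) :=
    {y | topologicalKrullDim (f₁.fiber y) ≤ 1} ∩ {y | 0 < topologicalKrullDim (f₁.fiber y)} ∩
      {y | GeometricallyReduced (f₁.fiberToSpecResidueField y) ∧ MoreMor.nGeomConnComp f₁ y = (1 : ℕ)}
  have hE : IsOpen E := ((FibDimLib.isOpen_fiber_dim_le f₁ f₁.isClosedMap 1).inter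
    (FibDimLib.isOpen_lt_fiber_dim f₁ (fun x => SmoothCritLib.isUnivOpenAt_of_mem_smoothLocus f₁ x
      (by rw [f₁.smoothLocus_eq_top]; trivial)) 0)).inter (Groth.Agent.S5935.result f₁ 1 le_rfl)
  have hqE : ∀ s, q₁.base s ∈ E := by
    intro s
    let K := AlgebraicClosure (S.residueField s)
    let ξ : Spec (CommRingCat.of K) ⟶ S :=
      Spec.map (CommRingCat.ofHom (algebraMap (S.residueField s) K)) ≫ S.fromSpecResidueField s
    have hξ : ξ.base default = s := Scheme.fromSpecResidueField_apply s _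
    have hd : topologicalKrullDim (f₁.fiber (q₁.base s)) = 1 := by
      rw [← FibDimLib.topologicalKrullDim_fiber_baseChange sq₁, ← hξ, ← EtPBCCdLib.dim_pullback_point f ξ]
      exact hdim K ξ
    refine ⟨⟨hd.le, ?_⟩, MorphismProperty.pullback_snd _ _ ‹GeometricallyReduced f₁›, ?_⟩
    · show (0 : WithBot ℕ∞) < _
      rw [hd]; exact zero_lt_one
    rw [← SecNhdLib.nGeomConnComp_baseChange sq₁, Nat.cast_one]
    refine GISpreadLib.card_connectedComponents_eq_one.2 ?_
    let L := SeparableClosure (S.residueField s)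
    let τ : L →ₐ[S.residueField s] K := IsSepClosed.lift
    let a := Spec.map (CommRingCat.ofHom (algebraMap (S.residueField s) L))
    have sqF : IsPullback (pullback.fst (f.fiberToSpecResidueField s) a ≫ f.fiberι s)
        (pullback.snd (f.fiberToSpecResidueField s) a) f (a ≫ S.fromSpecResidueField s) :=
      (IsPullback.of_hasPullback _ _).paste_horiz (IsPullback.of_hasPullback _ _)
    let b : Spec (CommRingCat.of K) ⟶ Spec (CommRingCat.of L) := Spec.map (CommRingCat.ofHom τ.toRingHom)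
    have hb : b ≫ a ≫ S.fromSpecResidueField s = ξ := by
      show _ ≫ _ ≫ _ = Spec.map _ ≫ _
      rw [← Spec.map_comp_assoc]
      exact congrArg (fun t => Spec.map t ≫ S.fromSpecResidueField s) (CommRingCat.hom_ext τ.comp_algebraMap)
    haveI : Surjective b := ⟨fun z => ⟨default, Subsingleton.elim (α := PrimeSpectrum L) _ _⟩⟩
    let g := pullback.snd f (a ≫ S.fromSpecResidueField s)
    haveI : Surjective (pullback.fst g b) := MorphismProperty.pullback_fst _ _ ‹Surjective b›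
    haveI hc := hconn K (b ≫ a ≫ S.fromSpecResidueField s)
    haveI : ConnectedSpace ↥(pullback g b) :=
      (Scheme.homeoOfIso (pullbackLeftPullbackSndIso f _ b)).connectedSpace_iff.2 hc
    haveI : ConnectedSpace ↥(pullback f (a ≫ S.fromSpecResidueField s)) :=
      (pullback.fst g b).surjective.connectedSpace (pullback.fst g b).continuous
    exact (Scheme.homeoOfIso sqF.isoPullback).connectedSpace_iff.2 this
  let V₂ : (V₁ : Scheme.{u}).Opens := ⟨E, hE⟩
  obtain ⟨q₂, p₂, hq₂, sq₂⟩ := exists_restrict sq₁ V₂ hqE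
  let f₂ := f₁ ∣_ V₂
  have sqV := (isPullback_morphismRestrict f₁ V₂).flip
  haveI : GeometricallyConnected f₂ := GISpreadLib.geometricallyConnected_restrict f₁ V₂ fun y hy =>
    GISpreadLib.card_connectedComponents_eq_one.1 (hy.2.2.trans Nat.cast_one)
  refine ⟨_, _, f₂, q₂, p₂, isLocallyNoetherian_of_isOpenImmersion V₂.ι,
    MorphismProperty.of_isPullback (P := @IsProper) sqV ‹_›, MorphismProperty.of_isPullback (P := @Smooth) sqV ‹_›,
    fun Ω _ _ s => ?_, fun Ω _ _ s => ?_, sq₂⟩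
  · haveI : GeometricallyConnected (pullback.snd f₂ s) := MorphismProperty.pullback_snd _ _ ‹_›
    exact GeometricallyConnected.connectedSpace_of_subsingleton (pullback.snd f₂ s)
  · haveI : LocallyOfFiniteType f₂ := MorphismProperty.of_isPullback (P := @LocallyOfFiniteType) sqV inferInstance
    rw [EtPBCCdLib.dim_pullback_point f₂ s, FibDimLib.topologicalKrullDim_fiber_baseChange sqV]
    have h := (show V₂.ι.base (s.base default) ∈ E from (s.base default).2).1
    exact le_antisymm h.1 (one_le_of_pos _ h.2)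

end EtCurveConsLib
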