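import Groth.Agent.EtPBCProperLib.FieldExt
import Groth.Agent.EtPBCProperLib.Stalk
import Groth.Agent.EtPBCCdLib.Main
import Groth.Agent.CurveH2Lib.Main
import Groth.Agent.CurveVBLib.Integral
import Groth.Agent.ConstUnitLib.Sections
import Groth.Agent.EtShLib.Constructible
import Groth.Agent.EtShLib.LocConst
import Groth.Agent.FibDimLib.FieldExt
import Groth.Agent.S19886
import Groth.Agent.S0636
import Groth.Agent.S0225

/-!
# Cohomology of the geometric fibres of a family of curves
-/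

set_option autoImplicit false
set_option linter.all false
set_option backward.isDefEq.respectTransparency false
set_option backward.isDefEq.respectTransparency.types false
set_option synthInstance.maxHeartbeats 400000
set_option maxHeartbeats 2000000

universe u

open CategoryTheory CategoryTheory.Limits AlgebraicGeometry Opposite CategoryTheory.Abelian
open Groth.Agent Groth.Agent.EtShLib

attribute [local instance] EtSliceLib.pullExact

noncomputable section

namespace EtCurveConsLib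

theorem finite_ulift_zmod (ℓ : ℕ) [NeZero ℓ] : Finite (AddCommGrpCat.of (ULift.{u + 1} (ZMod ℓ))) :=
  inferInstanceAs (Finite (ULift.{u + 1} (ZMod ℓ)))

theorem lc_const (X : Scheme.{u}) (ℓ : ℕ) [NeZero ℓ] :
    LC (fun M : AddCommGrpCat.{u + 1} => Finite M) (EtCoh.const X (ZMod ℓ)) := fun x =>
  ⟨EtCoh.top X, x, _, _, rfl, finite_ulift_zmod ℓ, ConstUnitLib.isCst_const _⟩

theorem isLocallyConstant_const (X : Scheme.{u}) (ℓ : ℕ) [NeZero ℓ] :
    EtRest.IsLocallyConstant (EtCoh.const X (ZMod ℓ)) :=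
  (isLC_iff _).2 ((lc_const X ℓ).mono fun _ _ => trivial)

theorem isConstructible_of_lc {X : Scheme.{u}} {F : EtCoh.Ab X}
    (h : LC (fun M : AddCommGrpCat.{u + 1} => Finite M) F) : EtPBC.IsConstructible F := by
  refine (isConstructible_iff F).2 fun U hU => ?_
  refine ⟨1, fun _ => U.toScheme, fun _ => U.ι, fun _ => inferInstance, fun _ => ?_, fun i j hij => absurd (Subsingleton.elim i j) hij, ?_, fun _ => h.pull⟩
  · convert Topology.IsConstructible.univ using 1
    exact Set.eq_univ_of_forall fun x => by rw [Set.mem_preimage, Scheme.Opens.range_ι]; exact x.2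
  · rw [Set.iUnion_const, Scheme.Opens.range_ι]

theorem isConstructible_const (X : Scheme.{u}) (ℓ : ℕ) [NeZero ℓ] :
    EtPBC.IsConstructible (EtCoh.const X (ZMod ℓ)) := isConstructible_of_lc (lc_const X ℓ)

theorem isLTorsion_const (X : Scheme.{u}) (ℓ : ℕ) (hℓ : ℓ.Prime) :
    EtAcyc.IsLTorsion {ℓ} (EtCoh.const X (ZMod ℓ)) :=
  LocAcycPointLib.isLTorsion_const ⟨hℓ.pos, fun p hp hd => (Nat.prime_dvd_prime_iff_eq hp hℓ).1 hd⟩

theorem isTorsion_const (X : Scheme.{u}) (ℓ : ℕ) [NeZero ℓ] : EtCoh.IsTorsion (EtCoh.const X (ZMod ℓ)) :=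
  EtPBCProperLib.isTorsion_of_nsmul (NeZero.pos ℓ) (EtPBCProperLib.nsmul_const X ℓ)

/-- The algebraic closure of a separably closed field does not change the cohomology. -/
theorem nonempty_equiv_algClosure {k : Type u} [Field k] [IsSepClosed k] {X : Scheme.{u}}
    (a : X ⟶ Spec (CommRingCat.of k)) [IsProper a] (ℓ : ℕ) [NeZero ℓ] (q : ℕ) :
    Nonempty (EtCoh.H X (EtCoh.const X (ZMod ℓ)) q ≃+
      EtCoh.H (pullback a (FEtProper.spR k (AlgebraicClosure k)))
        (EtCoh.const (pullback a (FEtProper.spR k (AlgebraicClosure k))) (ZMod ℓ)) q) :=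
  ⟨(AddEquiv.ofBijective _ (EtPBCProperLib.bijective_field (K := AlgebraicClosure k) a _ (isTorsion_const X ℓ) q)).trans
    (((EtCoh.HF _ q).mapIso ((EtCore.pullConstIso (pullback.fst a (FEtProper.spR k (AlgebraicClosure k)))).app
      (AddCommGrpCat.of (ULift.{u + 1} (ZMod ℓ))))).addCommGroupIsoToAddEquiv)⟩

theorem dim_algClosure {k : Type u} [Field k] {X : Scheme.{u}} (a : X ⟶ Spec (CommRingCat.of k))
    [LocallyOfFiniteType a] :
    topologicalKrullDim ↥(pullback a (FEtProper.spR k (AlgebraicClosure k))) = topologicalKrullDim X :=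
  FibDimLib.topologicalKrullDim_pullback_field (k := k) (K := AlgebraicClosure k) a

theorem finite_H {k : Type u} [Field k] [IsSepClosed k] {X : Scheme.{u}}
    (a : X ⟶ Spec (CommRingCat.of k)) [IsProper a] (hdim : topologicalKrullDim X ≤ 1) (ℓ : ℕ) [NeZero ℓ] (q : ℕ) :
    Finite (EtCoh.H X (EtCoh.const X (ZMod ℓ)) q) := by
  obtain ⟨e⟩ := nonempty_equiv_algClosure a ℓ q
  haveI := Groth.Agent.S0636.result (AlgebraicClosure k) _ (pullback.snd a (FEtProper.spR k (AlgebraicClosure k)))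
    ((dim_algClosure a).trans_le hdim) _ (isConstructible_const _ ℓ) (isTorsion_const _ ℓ) q
  exact Finite.of_equiv _ e.symm.toEquiv

/-- `H^2` of a proper curve in residue characteristic `ℓ`. -/
theorem subsingleton_H2 {k : Type u} [Field k] [IsSepClosed k] {X : Scheme.{u}}
    (a : X ⟶ Spec (CommRingCat.of k)) [IsProper a] (hdim : topologicalKrullDim X = 1) (ℓ : ℕ) [Fact ℓ.Prime]
    (h : (ℓ : k) = 0) : Subsingleton (EtCoh.H X (EtCoh.const X (ZMod ℓ)) 2) := by
  haveI : CharP k ℓ := (CharP.charP_iff_prime_eq_zero (Fact.out : ℓ.Prime)).2 h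
  exact Groth.Agent.S19886.result k ℓ X a 1 hdim 2 le_rfl

/-- `H^2` of a connected smooth proper curve. -/
theorem card_H2 {k : Type u} [Field k] [IsSepClosed k] {X : Scheme.{u}}
    (a : X ⟶ Spec (CommRingCat.of k)) [IsProper a] [Smooth a] (hdim : topologicalKrullDim X = 1)
    (hconn : ConnectedSpace ↥(pullback a (FEtProper.spR k (AlgebraicClosure k))))
    (ℓ : ℕ) [Fact ℓ.Prime] (h : (ℓ : k) ≠ 0) :
    Nat.card (EtCoh.H X (EtCoh.const X (ZMod ℓ)) 2) = ℓ := by
    haveI : NeZero ℓ := ⟨(Fact.out : ℓ.Prime).ne_zero⟩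
    obtain ⟨e⟩ := nonempty_equiv_algClosure a ℓ 2
    let K := AlgebraicClosure k
    let Y := pullback a (FEtProper.spR k K)
    letI : Y.Over (Spec (CommRingCat.of K)) := ⟨pullback.snd a (FEtProper.spR k K)⟩
    haveI : IsProper (Y ↘ Spec (CommRingCat.of K)) := inferInstanceAs (IsProper (pullback.snd a (FEtProper.spR k K)))
    haveI : Smooth (Y ↘ Spec (CommRingCat.of K)) :=
      MorphismProperty.of_isPullback (P := @Smooth) (IsPullback.of_hasPullback a (FEtProper.spR k K)) ‹_›
    haveI := hconn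
    haveI : IsNoetherian Y := CurvLib.isNoetherian K (X := Y)
    haveI : ∀ x : Y, IsDomain (Y.presheaf.stalk x) := fun x => by
      haveI := CurveVBLib.regular_stalk (k := K) x
      exact CommAlgDim.isDomain_of_isRegularLocalRing _
    haveI : IsIntegral Y := CurveVBLib.isIntegral_of_connected
    have hY : topologicalKrullDim Y = 1 := (dim_algClosure a).trans hdim
    have hℓK : (ℓ : K) ≠ 0 := fun h0 => h ((algebraMap k K).injective (by rw [map_natCast, map_zero, h0]))
    obtain ⟨e₁⟩ := CurveH2Lib.nonempty_H2_mu K Y hY ℓ hℓK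
    obtain ⟨i⟩ := CurveH2Lib.mu_iso_const K (Y ↘ Spec (CommRingCat.of K)) ℓ hℓK
    rw [Nat.card_congr (e.trans ((((EtCoh.HF Y 2).mapIso i).addCommGroupIsoToAddEquiv).symm.trans e₁)).toEquiv,
      Nat.card_zmod]

variable {X S : Scheme.{u}} (f : X ⟶ S) [IsProper f]

/-- The stalks of `R^q f_* Z/ℓ`. -/
theorem nonempty_stalk_equiv (ℓ : ℕ) [NeZero ℓ] (q : ℕ) {Ω : Type u} [Field Ω] [IsSepClosed Ω]
    (ξ : Spec (CommRingCat.of Ω) ⟶ S) :
    Nonempty (((EtCoh.stalk ξ).obj ((EtCoh.Rpush f q).obj (EtCoh.const X (ZMod ℓ))) : Type (u + 1)) ≃+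
      EtCoh.H (pullback f ξ) (EtCoh.const (pullback f ξ) (ZMod ℓ)) q) := by
  obtain ⟨e⟩ := EtPBCProperLib.nonempty_stalk_iso f ξ (EtCoh.const X (ZMod ℓ)) (isTorsion_const X ℓ) q
  exact ⟨e.addCommGroupIsoToAddEquiv.trans (((EtCoh.HF _ q).mapIso
    ((EtCore.pullConstIso (pullback.fst f ξ)).app (AddCommGrpCat.of (ULift.{u + 1} (ZMod ℓ))))).addCommGroupIsoToAddEquiv)⟩

end EtCurveConsLib
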