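import Groth.Agent.EtCurveConsLib.Noeth
import Groth.Agent.EtCurveConsLib.Descent
import Groth.Agent.S0127

/-!
# Constructibility of `R^q f_* ℤ/ℓ` for proper smooth families of connected curves
-/

set_option autoImplicit false
set_option linter.all false
set_option backward.isDefEq.respectTransparency false
set_option backward.isDefEq.respectTransparency.types false
set_option synthInstance.maxHeartbeats 400000
set_option maxHeartbeats 2000000

universe u

open CategoryTheory CategoryTheory.Limits AlgebraicGeometry Opposite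
open Groth.Agent Groth.Agent.EtShLib

attribute [local instance] EtSliceLib.pullExact

noncomputable section

namespace EtCurveConsLib

/-- Base change of `R^q f_* ℤ/ℓ` along any morphism. -/
theorem nonempty_pull_Rpush_iso {X S X' S' : Scheme.{u}} {f : X ⟶ S} [IsProper f] {g : S' ⟶ S} {f' : X' ⟶ S'}
    {g' : X' ⟶ X} (c : IsPullback g' f' f g) (ℓ : ℕ) [NeZero ℓ] (q : ℕ) :
    Nonempty ((EtCoh.pull g).obj ((EtCoh.Rpush f q).obj (EtCoh.const X (ZMod ℓ))) ≅
      (EtCoh.Rpush f' q).obj (EtCoh.const X' (ZMod ℓ))) := by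
  haveI := EtPBCProperLib.isIso_bcQ g f f' g' c (EtCoh.const X (ZMod ℓ)) (isTorsion_const X ℓ) q
  exact ⟨asIso (EtBC.bcQ f g f' g' c.w q (EtCoh.const X (ZMod ℓ))) ≪≫ (EtCoh.Rpush f' q).mapIso
    ((EtCore.pullConstIso g').app (AddCommGrpCat.of (ULift.{u + 1} (ZMod ℓ))))⟩

theorem isConstructible_of_iso {X : Scheme.{u}} {F G : EtCoh.Ab X} (e : F ≅ G) (h : EtPBC.IsConstructible F) :
    EtPBC.IsConstructible G :=
  (isConstructible_iff G).2 (((isConstructible_iff F).1 h).of_hom e.hom)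

theorem isConstructible_affine {X S : Scheme.{u}} [IsAffine S] (f : X ⟶ S) [IsProper f] [Smooth f]
    (hconn : ∀ (Ω : Type u) [Field Ω] [IsAlgClosed Ω] (s : Spec (CommRingCat.of Ω) ⟶ S),
      ConnectedSpace ↥(pullback f s))
    (hdim : ∀ (Ω : Type u) [Field Ω] [IsAlgClosed Ω] (s : Spec (CommRingCat.of Ω) ⟶ S),
      topologicalKrullDim ↥(pullback f s) = 1)
    (ℓ : ℕ) [Fact ℓ.Prime] (q : ℕ) :
    EtPBC.IsConstructible ((EtCoh.Rpush f q).obj (EtCoh.const X (ZMod ℓ))) := by
  haveI : NeZero ℓ := ⟨(Fact.out : ℓ.Prime).ne_zero⟩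
  obtain ⟨X₀, S₀, f₀, g, g', hS₀, hP, hsm, hc₀, hd₀, sq⟩ := exists_curve_model f hconn hdim
  haveI := hS₀; haveI := hP; haveI := hsm
  obtain ⟨e⟩ := nonempty_pull_Rpush_iso sq ℓ q
  exact isConstructible_of_iso e (Groth.Agent.S0127.result g _ (isConstructible_of_noetherian f₀ hc₀ hd₀ ℓ q))

theorem isConstructible_Rpush_const {X S : Scheme.{u}} (f : X ⟶ S) [IsProper f] [Smooth f]
    (hconn : ∀ (Ω : Type u) [Field Ω] [IsAlgClosed Ω] (s : Spec (CommRingCat.of Ω) ⟶ S),
      ConnectedSpace ↥(pullback f s))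
    (hdim : ∀ (Ω : Type u) [Field Ω] [IsAlgClosed Ω] (s : Spec (CommRingCat.of Ω) ⟶ S),
      topologicalKrullDim ↥(pullback f s) = 1)
    (ℓ : ℕ) [Fact ℓ.Prime] (q : ℕ) :
    EtPBC.IsConstructible ((EtCoh.Rpush f q).obj (EtCoh.const X (ZMod ℓ))) := by
  haveI : NeZero ℓ := ⟨(Fact.out : ℓ.Prime).ne_zero⟩
  refine (isConstructible_iff _).2 (IsCons.of_open_cover (fun U : S.affineOpens => (U : S.Opens))
    (TopologicalSpace.Opens.ext (Set.eq_univ_of_forall fun x => ?_)) fun U => ?_)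
  · obtain ⟨V, hV, hx, -⟩ := exists_isAffineOpen_mem_and_subset (X := S) (x := x) (U := ⊤) trivial
    exact TopologicalSpace.Opens.mem_iSup.2 ⟨⟨V, hV⟩, hx⟩
  let ι := (U : S.Opens).ι
  haveI : IsAffine (U : S.Opens).toScheme := U.2
  let f' := pullback.snd f ι
  have sq : IsPullback (pullback.fst f ι) f' f ι := IsPullback.of_hasPullback f ι
  haveI : IsProper f' := MorphismProperty.of_isPullback sq ‹IsProper f›
  haveI : Smooth f' := MorphismProperty.of_isPullback sq ‹Smooth f›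
  obtain ⟨e⟩ := nonempty_pull_Rpush_iso sq ℓ q
  refine (isConstructible_iff _).1 (isConstructible_of_iso e.symm (isConstructible_affine f' (fun Ω _ _ s => ?_) (fun Ω _ _ s => ?_) ℓ q))
  · exact (Scheme.homeoOfIso (pullbackLeftPullbackSndIso f ι s)).connectedSpace_iff.2 (hconn Ω _)
  · exact (IsHomeomorph.topologicalKrullDim_eq _
      (Scheme.homeoOfIso (pullbackLeftPullbackSndIso f ι s)).isHomeomorph).trans (hdim Ω _)

end EtCurveConsLib
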