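import Groth.Agent.EtModPBCLib.Forget
import Groth.Agent.EtModPBCLib.Acyc
import Groth.Agent.EtModUnbLib.Acy
import Groth.Agent.EtCechInjLib.Delta
import Groth.Agent.EtBcQLib.DeltaHom
import Groth.Agent.FormalPunctLib.Iso
import Mathlib.CategoryTheory.Sites.ConstantSheaf

/-!
# Scalars and underlying abelian sheaves of higher direct images of sheaves of modules
-/

set_option autoImplicit false
set_option linter.all false
set_option backward.isDefEq.respectTransparency false
set_option backward.isDefEq.respectTransparency.types false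
set_option synthInstance.maxHeartbeats 400000
set_option maxHeartbeats 1000000

open CategoryTheory CategoryTheory.Limits AlgebraicGeometry Opposite LocCohLib

noncomputable section

namespace EtCurveConsLib

section Pre

universe v v' v'' w w' w''

variable {A : Type w} [Category.{v} A] [Abelian A] {C : Type w'} [Category.{v'} C] [Abelian C]
  {D : Type w''} [Category.{v''} D] [Abelian D]

/-- Precomposition of a delta functor with an exact functor. -/
def preExact (G : A ⥤ C) [G.Additive] [PreservesFiniteLimits G] [PreservesFiniteColimits G] (T : DeltaFun C D) :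
    DeltaFun A D where
  F i := G ⋙ T.F i
  preservesZero i := haveI := T.preservesZero i; inferInstance
  δ hS i := T.δ (hS.map_of_exact G) i
  δ_natural hS hS' φ i := T.δ_natural (hS.map_of_exact G) (hS'.map_of_exact G) (G.mapShortComplex.map φ) i
  map_comp_δ hS i := T.map_comp_δ (hS.map_of_exact G) i
  δ_comp_map hS i := T.δ_comp_map (hS.map_of_exact G) i
  exact₁ hS i := T.exact₁ (hS.map_of_exact G) i
  exact₂ hS i := T.exact₂ (hS.map_of_exact G) i
  exact₃ hS i := T.exact₃ (hS.map_of_exact G) i
  mono₀ hS := T.mono₀ (hS.map_of_exact G)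

/-- A natural endomorphism of the identity commuting with a functor commutes with its derived functors. -/
theorem rightDerived_map_of_comm [EnoughInjectives A] [HasInjectiveResolutions A] (F : A ⥤ C) [F.Additive] [PreservesFiniteLimits F]
    (σ : 𝟭 A ⟶ 𝟭 A) (τ : 𝟭 C ⟶ 𝟭 C) (h : ∀ X, F.map (σ.app X) = τ.app (F.obj X)) (q : ℕ) (X : A) :
    (F.rightDerived q).map (σ.app X) = τ.app ((F.rightDerived q).obj X) := by
  let T := EtCechInjLib.derDelta F
  let a : ∀ i, T.F i ⟶ T.F i := fun i => Functor.whiskerRight σ (T.F i)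
  let b : ∀ i, T.F i ⟶ T.F i := fun i => Functor.whiskerLeft (T.F i) τ
  have hT : T.Effaceable := fun E hE i => haveI := hE; Functor.isZero_rightDerived_obj_injective_succ _ i E
  have ha : EtBcQLib.Comm a := fun {S} hS i =>
    T.δ_natural hS hS ⟨σ.app S.X₁, σ.app S.X₂, σ.app S.X₃, (σ.naturality S.f).symm, (σ.naturality S.g).symm⟩ i
  have hb : EtBcQLib.Comm b := fun {S} hS i => τ.naturality (T.δ hS i)
  have h0 : a 0 = b 0 := NatTrans.ext (funext fun X => by
    haveI : IsIso (F.toRightDerivedZero.app X) := inferInstance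
    refine (cancel_epi (F.toRightDerivedZero.app X)).1 ?_
    refine (F.toRightDerivedZero.naturality (σ.app X)).symm.trans ?_
    rw [h X]
    exact (τ.naturality (F.toRightDerivedZero.app X)).symm)
  exact congrArg (fun z => z.app X) (EtBcQLib.eq_of_zero hT a b ha hb h0 q)

/-- A natural endomorphism of the identity commutes with a left adjoint if it commutes with the right adjoint. -/
theorem map_of_comm_adj {L : A ⥤ C} {R : C ⥤ A} (adj : L ⊣ R) (σ : 𝟭 A ⟶ 𝟭 A) (τ : 𝟭 C ⟶ 𝟭 C)
    (h : ∀ Y, R.map (τ.app Y) = σ.app (R.obj Y)) (X : A) : L.map (σ.app X) = τ.app (L.obj X) := by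
  refine (adj.homEquiv _ _).injective ?_
  rw [Adjunction.homEquiv_unit, Adjunction.homEquiv_unit, h]
  refine (adj.unit.naturality (σ.app X)).symm.trans ?_
  exact (σ.naturality (adj.unit.app X)).symm

end Pre

universe u

attribute [local instance] EtSliceLib.pullExact

variable (Λ : Type (u + 1)) [CommRing Λ]

/-- Multiplication by a scalar on all sheaves of modules. -/
def smulNat (lam : Λ) (X : Scheme.{u}) : 𝟭 (EtModW.Mod Λ X) ⟶ 𝟭 (EtModW.Mod Λ X) where
  app F := ⟨{ app := fun U => ModuleCat.ofHom (lam • LinearMap.id)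
              naturality := fun U V g => by
                ext s
                exact ((F.obj.map g).hom.map_smul lam s).symm }⟩
  naturality F G φ := by
    refine Sheaf.hom_ext (NatTrans.ext (funext fun U => ?_))
    ext s
    exact ((φ.hom.app U).hom.map_smul lam s).symm

theorem smulNat_app (lam : Λ) {X : Scheme.{u}} (F : EtModW.Mod Λ X) (U : (X.Etale)ᵒᵖ) (s : F.obj.obj U) :
    ((smulNat Λ lam X).app F).hom.app U s = lam • s := rfl

theorem push_smulNat (lam : Λ) {X S : Scheme.{u}} (f : X ⟶ S) (F : EtModW.Mod Λ X) :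
    (EtModW.push Λ f).map ((smulNat Λ lam X).app F) = (smulNat Λ lam S).app ((EtModW.push Λ f).obj F) :=
  Sheaf.hom_ext (NatTrans.ext (funext fun U => rfl))

theorem pull_smulNat (lam : Λ) {X S : Scheme.{u}} (f : X ⟶ S) (F : EtModW.Mod Λ S) :
    (EtModW.pull Λ f).map ((smulNat Λ lam S).app F) = (smulNat Λ lam X).app ((EtModW.pull Λ f).obj F) :=
  map_of_comm_adj (EtSix.pullPushModAdj Λ f) (smulNat Λ lam S) (smulNat Λ lam X) (push_smulNat Λ lam f) F

theorem push_pfl {X S : Scheme.{u}} (f : X ⟶ S) : PreservesFiniteLimits (EtModW.push Λ f) := by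
  haveI : PreservesLimitsOfSize.{0, 0} (EtModW.push Λ f) := (EtSix.pullPushModAdj Λ f).rightAdjoint_preservesLimits
  exact PreservesLimitsOfSize.preservesFiniteLimits _

theorem Rpush_smulNat (lam : Λ) {X S : Scheme.{u}} (f : X ⟶ S) (q : ℕ) (F : EtModW.Mod Λ X) :
    (EtModW.Rpush Λ f q).map ((smulNat Λ lam X).app F) = (smulNat Λ lam S).app ((EtModW.Rpush Λ f q).obj F) :=
  haveI := push_pfl Λ f
  rightDerived_map_of_comm (EtModW.push Λ f) (smulNat Λ lam X) (smulNat Λ lam S) (push_smulNat Λ lam f) q F

theorem constMod_smulNat (lam : Λ) (X : Scheme.{u}) (M : ModuleCat.{u + 1} Λ) :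
    (constantSheaf X.smallEtaleTopology (ModuleCat.{u + 1} Λ)).map (ModuleCat.ofHom (lam • (LinearMap.id : M →ₗ[Λ] M))) =
      (smulNat Λ lam X).app ((constantSheaf X.smallEtaleTopology (ModuleCat.{u + 1} Λ)).obj M) := by
  refine Sheaf.hom_ext ?_
  refine sheafify_hom_ext _ _ _ ((constantSheaf X.smallEtaleTopology (ModuleCat.{u + 1} Λ)).obj M).property ?_
  refine (toSheafify_naturality X.smallEtaleTopology
    ((Functor.const (X.Etale)ᵒᵖ).map (ModuleCat.ofHom (lam • (LinearMap.id : M →ₗ[Λ] M))))).symm.trans ?_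
  refine NatTrans.ext (funext fun U => ?_)
  ext s
  exact ((toSheafify X.smallEtaleTopology ((Functor.const (X.Etale)ᵒᵖ).obj M)).app U).hom.map_smul lam s

/-- The higher direct images of modules, on underlying abelian sheaves. -/
def forgetRpushIso {X S : Scheme.{u}} (f : X ⟶ S) (q : ℕ) :
    EtModW.Rpush Λ f q ⋙ EtModD.forgetToAb Λ S ≅ EtModD.forgetToAb Λ X ⋙ EtCoh.Rpush f q :=
  haveI := EtModPBCLib.forget_pfl Λ X
  haveI := EtModPBCLib.forget_pfc Λ X
  haveI := EtModPBCLib.forget_pfl Λ S
  haveI := EtModPBCLib.forget_pfc Λ S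
  haveI := EtModUnbLib.forget_additive Λ X
  haveI := EtModUnbLib.forget_additive Λ S
  haveI : (EtCoh.push f).Additive := { }
  haveI : PreservesLimitsOfSize.{0, 0} (EtCoh.push f) := (EtCoh.pullPushAdj f).rightAdjoint_preservesLimits
  haveI : PreservesFiniteLimits (EtCoh.push f) := PreservesLimitsOfSize.preservesFiniteLimits _
  haveI := push_pfl Λ f
  LocCohLib.DeltaFun.isoOfZero
    (T := FormalPunctLib.compExact (EtCechInjLib.derDelta (EtModW.push Λ f)) (EtModD.forgetToAb Λ S))
    (T' := preExact (EtModD.forgetToAb Λ X) (EtCechInjLib.derDelta (EtCoh.push f)))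
    (FormalPunctLib.compExact_effaceable
      (fun E hE i => haveI := hE; Functor.isZero_rightDerived_obj_injective_succ _ i E) _)
    (fun E hE i => haveI := hE; EtModPBCLib.isZero_Rpush_forget Λ f E (i + 1) (Nat.succ_pos i))
    (Functor.isoWhiskerRight (EtModW.push Λ f).rightDerivedZeroIsoSelf _ ≪≫
      (Functor.isoWhiskerLeft (EtModD.forgetToAb Λ X) (EtCoh.push f).rightDerivedZeroIsoSelf).symm) q

/-- The underlying abelian sheaf of a constant sheaf of modules. -/
def forgetConstIso (X : Scheme.{u}) :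
    constantSheaf X.smallEtaleTopology (ModuleCat.{u + 1} Λ) ⋙ EtModD.forgetToAb Λ X ≅
      Groth.Agent.EpsLib.UF Λ ⋙ constantSheaf X.smallEtaleTopology AddCommGrpCat.{u + 1} :=
  constantCommuteCompose X.smallEtaleTopology (Groth.Agent.EpsLib.UF Λ)

end EtCurveConsLib
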