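import Groth.Agent.EtPBCDLib.Coprod
import Groth.Agent.EtShLib.Constructible
import Groth.Agent.EtPBCProperLib.Surj2
import Mathlib.LinearAlgebra.TensorProduct.Basic
import Mathlib.Algebra.Module.ZMod
import Mathlib

/-!
# Higher direct images of constant sheaves of vector spaces over a prime field
-/

set_option autoImplicit false
set_option linter.all false
set_option backward.isDefEq.respectTransparency false
set_option backward.isDefEq.respectTransparency.types false
set_option synthInstance.maxHeartbeats 400000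
set_option maxHeartbeats 1000000

universe u

open CategoryTheory CategoryTheory.Limits AlgebraicGeometry Opposite
open Groth.Agent Groth.Agent.EtShLib
open scoped TensorProduct

attribute [local instance] EtSliceLib.pullExact EtPBCDLib.preservesFiniteLimits_push

noncomputable section

namespace EtCurveConsLib

/-- The higher direct images of a direct sum are generated by those of the summands. -/
theorem epi_Rpush_sigma {X S : Scheme.{u}} (f : X ⟶ S) [QuasiCompact f] [QuasiSeparated f] :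
    ∀ (q : ℕ) {ι : Type (u + 1)} (A : ι → EtCoh.Ab X),
      Epi (Sigma.desc fun b => (EtCoh.Rpush f q).map (Sigma.ι A b)) := by
  haveI : (EtCoh.push f).Additive := { }
  haveI : AB4OfSize.{u + 1} (EtCoh.Ab X) := AB4.of_AB5 _
  intro q
  induction q with
  | zero =>
    intro ι A
    haveI := EtPBCDLib.preservesCoproducts_push f ι
    let z := (EtCoh.push f).rightDerivedZeroIsoSelf
    have e : Sigma.desc (fun b => (EtCoh.Rpush f 0).map (Sigma.ι A b)) =
        Limits.Sigma.map (fun b => z.hom.app (A b)) ≫ sigmaComparison (EtCoh.push f) A ≫ z.inv.app (∐ A) := by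
      refine Sigma.hom_ext _ _ fun b => ?_
      rw [Sigma.ι_desc, Sigma.ι_map_assoc, ι_comp_sigmaComparison_assoc, ← Category.assoc]
      refine ((cancel_mono (z.hom.app (∐ A))).1 ?_)
      rw [Category.assoc, Category.assoc, Iso.inv_hom_id_app, Category.comp_id]
      exact z.hom.naturality _
    rw [e]
    infer_instance
  | succ q ih =>
    intro ι A
    let T := fun b => CohLib.injSC (A b)
    have hT : ∀ b, (T b).ShortExact := fun b => CohLib.injSC_shortExact (A b)
    let I := fun b => (T b).X₂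
    let Q := fun b => (T b).X₃
    let m : ∐ A ⟶ ∐ I := Limits.Sigma.map fun b => (T b).f
    haveI : ∀ b, Mono (T b).f := fun b => (hT b).mono_f
    haveI : Mono m := by
      haveI : ∀ j : Discrete ι, Mono ((Discrete.natTrans fun b => (T b.as).f : Discrete.functor A ⟶ Discrete.functor I).app j) :=
        fun j => (hT j.as).mono_f
      haveI : Mono (Discrete.natTrans fun b => (T b.as).f : Discrete.functor A ⟶ Discrete.functor I) :=
        NatTrans.mono_of_mono_app _
      haveI : PreservesFiniteLimits (colim : (Discrete ι ⥤ EtCoh.Ab X) ⥤ EtCoh.Ab X) :=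
        HasExactColimitsOfShape.preservesFiniteLimits
      exact inferInstanceAs (Mono (colim.map (Discrete.natTrans fun b => (T b.as).f : Discrete.functor A ⟶ Discrete.functor I)))
    let U : ShortComplex (EtCoh.Ab X) := ShortComplex.mk m (cokernel.π m) (cokernel.condition m)
    have hU : U.ShortExact := { exact := ShortComplex.exact_of_g_is_cokernel _ (cokernelIsCokernel _) }
    have hc : ∀ b, (T b).f ≫ Sigma.ι I b ≫ cokernel.π m = 0 := fun b => by
      rw [← Category.assoc, show (T b).f ≫ Sigma.ι I b = Sigma.ι A b ≫ m from (Sigma.ι_map (fun b => (T b).f) b).symm,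
        Category.assoc, cokernel.condition, comp_zero]
    haveI : ∀ b, Epi (T b).g := fun b => (hT b).epi_g
    let ψ : ∐ Q ⟶ U.X₃ := Sigma.desc fun b => (hT b).gIsCokernel.desc (CokernelCofork.ofπ _ (hc b))
    have hψ : ∀ b, (T b).g ≫ Sigma.ι Q b ≫ ψ = Sigma.ι I b ≫ cokernel.π m := fun b => by
      rw [Sigma.ι_desc]
      exact (hT b).gIsCokernel.fac _ WalkingParallelPair.one
    have hi0 : m ≫ Limits.Sigma.map (fun b => (T b).g) = 0 := Sigma.hom_ext _ _ fun b => by
      rw [Sigma.ι_map_assoc, Sigma.ι_map, ← Category.assoc, (T b).zero, zero_comp, comp_zero]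
    haveI : IsIso ψ := by
      refine ⟨cokernel.desc m (Limits.Sigma.map fun b => (T b).g) hi0, Sigma.hom_ext _ _ fun b => ?_, ?_⟩
      · rw [← cancel_epi (T b).g, reassoc_of% (hψ b), cokernel.π_desc, Sigma.ι_map, Category.comp_id]
      · refine coequalizer.hom_ext (Sigma.hom_ext _ _ fun b => ?_)
        show Sigma.ι I b ≫ cokernel.π m ≫ cokernel.desc m _ hi0 ≫ ψ = Sigma.ι I b ≫ cokernel.π m ≫ 𝟙 _
        rw [cokernel.π_desc_assoc, Sigma.ι_map_assoc, Category.comp_id]
        exact hψ b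
    let φ : ∀ b, T b ⟶ U := fun b => ⟨Sigma.ι A b, Sigma.ι I b, Sigma.ι Q b ≫ ψ, (Sigma.ι_map (fun b => (T b).f) b), (hψ b).symm⟩
    let δ := EtCechInjLib.derDelta (EtCoh.push f)
    haveI : Epi (δ.δ hU q) := δ.epi_δ hU q (EtPBCDLib.isZero_Rpush_sigma_injective f (Discrete.functor I)
      (colimit.cocone _) (coproductIsCoproduct I) (fun j => inferInstanceAs (Injective (Injective.under (A j.as))))
      (q + 1) q.succ_pos)
    haveI := ih Q
    have he : Epi (Limits.Sigma.map (fun b => δ.δ (hT b) q) ≫ Sigma.desc fun b => (EtCoh.Rpush f (q + 1)).map (Sigma.ι A b)) := by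
      rw [show Limits.Sigma.map (fun b => δ.δ (hT b) q) ≫ Sigma.desc (fun b => (EtCoh.Rpush f (q + 1)).map (Sigma.ι A b)) =
        Sigma.desc (fun b => (EtCoh.Rpush f q).map (Sigma.ι Q b)) ≫ (EtCoh.Rpush f q).map ψ ≫ δ.δ hU q from
        Sigma.hom_ext _ _ fun b => by
          rw [Sigma.ι_map_assoc, Sigma.ι_desc, Sigma.ι_desc_assoc, ← Functor.map_comp_assoc]
          exact δ.δ_natural (hT b) hU (φ b) q]
      haveI hψe : Epi ((EtCoh.Rpush f q).map ψ ≫ δ.δ hU q) := @epi_comp _ _ _ _ _ ((EtCoh.Rpush f q).map ψ) inferInstance (δ.δ hU q) inferInstance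
      exact @epi_comp _ _ _ _ _ _ (ih Q) _ hψe
    exact @epi_of_epi _ _ _ _ _ (Limits.Sigma.map fun b => δ.δ (hT b) q) _ he

section Tensor

variable {M : Type (u + 1)} [AddCommGroup M] (ℓ : ℕ) (hM : ∀ m : M, ℓ • m = 0)

/-- The map from `ℤ/ℓ` given by an element killed by `ℓ`. -/
def bMap (m : M) : AddCommGrpCat.of (ULift.{u + 1} (ZMod ℓ)) ⟶ AddCommGrpCat.of M :=
  AddCommGrpCat.ofHom ((ZMod.lift ℓ ⟨zmultiplesHom M m, by
    show ((ℓ : ℤ) • m) = 0
    rw [natCast_zsmul]; exact hM m⟩).comp AddEquiv.ulift.toAddMonoidHom)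

theorem zmod_hom_ext {N : AddCommGrpCat.{u + 1}} {g h : AddCommGrpCat.of (ULift.{u + 1} (ZMod ℓ)) ⟶ N}
    (e : g (ULift.up 1) = h (ULift.up 1)) : g = h := by
  ext x
  obtain ⟨k, hk⟩ := ZMod.intCast_surjective x.down
  have hx : x = k • (ULift.up 1 : ULift.{u + 1} (ZMod ℓ)) := ULift.ext _ _ (by
    show x.down = k • (1 : ZMod ℓ)
    rw [zsmul_one, hk])
  show g x = h x
  rw [hx, map_zsmul, map_zsmul]
  exact congrArg (k • ·) e

theorem bMap_one (m : M) : bMap ℓ hM m (ULift.up 1) = m := by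
  unfold bMap
  simp only [AddCommGrpCat.hom_ofHom, AddMonoidHom.coe_comp, Function.comp_apply]
  show (ZMod.lift ℓ _) (1 : ZMod ℓ) = m
  rw [show (1 : ZMod ℓ) = ((1 : ℤ) : ZMod ℓ) from Int.cast_one.symm, ZMod.lift_coe]
  exact one_zsmul m

theorem bMap_add (m n : M) : bMap ℓ hM (m + n) = bMap ℓ hM m + bMap ℓ hM n :=
  zmod_hom_ext ℓ (by
    show bMap ℓ hM (m + n) (ULift.up 1) = bMap ℓ hM m (ULift.up 1) + bMap ℓ hM n (ULift.up 1)
    rw [bMap_one, bMap_one, bMap_one])

variable (P : AddCommGrpCat.{u + 1} ⥤ AddCommGrpCat.{u + 1}) [P.Additive]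

/-- The comparison `M ⊗ P(ℤ/ℓ) → P(M)`. -/
def tensorMap : M ⊗[ℤ] (P.obj (AddCommGrpCat.of (ULift.{u + 1} (ZMod ℓ)))) →+ P.obj (AddCommGrpCat.of M) :=
  TensorProduct.liftAddHom
    (AddMonoidHom.mk' (fun m => (P.map (bMap ℓ hM m)).hom) (fun m n => by
      rw [bMap_add, P.map_add]; rfl))
    (fun k m v => by
      show P.map (bMap ℓ hM (k • m)) v = P.map (bMap ℓ hM m) (k • v)
      have h : bMap ℓ hM (k • m) = k • bMap ℓ hM m := zmod_hom_ext ℓ (by
        show bMap ℓ hM (k • m) (ULift.up 1) = k • bMap ℓ hM m (ULift.up 1)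
        rw [bMap_one, bMap_one])
      rw [h, P.map_zsmul, map_zsmul]
      rfl)

theorem tensorMap_tmul (m : M) (v : P.obj (AddCommGrpCat.of (ULift.{u + 1} (ZMod ℓ)))) :
    tensorMap ℓ hM P (m ⊗ₜ v) = P.map (bMap ℓ hM m) v := rfl

/-- `M ⊗ P(ℤ/ℓ) → P(M)` is bijective when `P(M)` is generated by the images of `P(ℤ/ℓ)`. -/
theorem bijective_tensorMap_of_module [Fact ℓ.Prime] [Module (ZMod ℓ) M]
    (hgen : ∀ p, p ∈ AddSubgroup.closure (⋃ m : M, Set.range (P.map (bMap ℓ hM m)))) :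
    Function.Bijective (tensorMap ℓ hM P) := by
  classical
  let B := Module.Basis.ofVectorSpace (ZMod ℓ) M
  let Z := AddCommGrpCat.of (ULift.{u + 1} (ZMod ℓ))
  let Ψ : (_ →₀ P.obj Z) →+ M ⊗[ℤ] (P.obj Z) :=
    Finsupp.liftAddHom fun j => AddMonoidHom.mk' (fun v => B j ⊗ₜ[ℤ] v) (TensorProduct.tmul_add _)
  have hs : Function.Surjective Ψ := fun x => by
    induction x using TensorProduct.induction_on with
    | zero => exact ⟨0, map_zero Ψ⟩
    | tmul m v =>
      refine AddMonoidHom.mem_range.1 (show m ⊗ₜ[ℤ] v ∈ Ψ.range from ?_)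
      rw [← B.linearCombination_repr m, Finsupp.linearCombination_apply, Finsupp.sum, TensorProduct.sum_tmul]
      refine sum_mem fun j _ => ⟨Finsupp.single j (((B.repr m j).val : ℤ) • v), ?_⟩
      show Ψ _ = (B.repr m j • B j) ⊗ₜ[ℤ] v
      rw [Finsupp.liftAddHom_apply_single]
      show B j ⊗ₜ[ℤ] (((B.repr m j).val : ℤ) • v) = _
      rw [← TensorProduct.smul_tmul, natCast_zsmul, ← Nat.cast_smul_eq_nsmul (ZMod ℓ), ZMod.natCast_zmod_val]
    | add x y hx hy =>
      obtain ⟨a, rfl⟩ := hx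
      obtain ⟨b, rfl⟩ := hy
      exact ⟨a + b, map_add Ψ a b⟩
  let r : ∀ j, AddCommGrpCat.of M ⟶ Z := fun j => AddCommGrpCat.ofHom
    (AddEquiv.ulift.symm.toAddMonoidHom.comp (B.coord j).toAddMonoidHom)
  have hr : ∀ i j, bMap ℓ hM (B i) ≫ r j = if i = j then 𝟙 Z else 0 := fun i j => zmod_hom_ext ℓ (by
    show r j (bMap ℓ hM (B i) (ULift.up 1)) = _
    rw [bMap_one]
    refine ULift.ext _ _ ?_
    show B.repr (B i) j = _
    rw [Module.Basis.repr_self_apply]
    split_ifs <;> rfl)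
  refine ⟨(injective_iff_map_eq_zero _).2 fun x hx => ?_, fun p => ?_⟩
  · obtain ⟨c, rfl⟩ := hs x
    suffices c = 0 by rw [this, map_zero]
    refine Finsupp.ext fun j => ?_
    have key : ((P.map (r j)).hom.comp (tensorMap ℓ hM P)).comp Ψ = Finsupp.applyAddHom j := by
      refine Finsupp.addHom_ext fun i v => ?_
      show P.map (r j) (tensorMap ℓ hM P (Ψ (Finsupp.single i v))) = Finsupp.single i v j
      rw [Finsupp.liftAddHom_apply_single]
      show P.map (r j) (P.map (bMap ℓ hM (B i)) v) = _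
      rw [← ConcreteCategory.comp_apply, ← P.map_comp, hr]
      by_cases h : i = j
      · subst h; rw [if_pos rfl, P.map_id, Finsupp.single_eq_same]; rfl
      · rw [if_neg h, P.map_zero, Finsupp.single_eq_of_ne' h]; rfl
    refine (DFunLike.congr_fun key c).symm.trans ?_
    show P.map (r j) (tensorMap ℓ hM P (Ψ c)) = 0
    rw [hx, map_zero]
  · refine AddMonoidHom.mem_range.1 ((AddSubgroup.closure_le _).2 ?_ (hgen p))
    rintro _ ⟨_, ⟨m, rfl⟩, v, rfl⟩
    exact ⟨m ⊗ₜ v, tensorMap_tmul ℓ hM P m v⟩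

end Tensor

/-- The stalks of higher direct images of a constant sheaf of `ℤ/ℓ`-vector spaces. -/
def stkConst {X S : Scheme.{u}} (f : X ⟶ S) (q : ℕ) {Ω : Type u} [Field Ω] [IsSepClosed Ω]
    (ζ : Spec (CommRingCat.of Ω) ⟶ S) : AddCommGrpCat.{u + 1} ⥤ AddCommGrpCat.{u + 1} :=
  constantSheaf X.smallEtaleTopology AddCommGrpCat.{u + 1} ⋙ EtCoh.Rpush f q ⋙ stk (A := AddCommGrpCat.{u + 1}) ζ

instance {X S : Scheme.{u}} (f : X ⟶ S) (q : ℕ) {Ω : Type u} [Field Ω] [IsSepClosed Ω]
    (ζ : Spec (CommRingCat.of Ω) ⟶ S) : (stkConst f q ζ).Additive := by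
  haveI : PreservesFiniteLimits (constantSheaf X.smallEtaleTopology AddCommGrpCat.{u + 1}) := by
    dsimp only [constantSheaf]; infer_instance
  haveI : (constantSheaf X.smallEtaleTopology AddCommGrpCat.{u + 1}).Additive :=
    Functor.additive_of_preserves_binary_products _
  haveI : (EtCoh.push f).Additive := { }
  unfold stkConst
  infer_instance

theorem mem_closure_stkConst_of_module {X S : Scheme.{u}} (f : X ⟶ S) [QuasiCompact f] [QuasiSeparated f] (q : ℕ)
    {Ω : Type u} [Field Ω] [IsSepClosed Ω] (ζ : Spec (CommRingCat.of Ω) ⟶ S) {M : Type (u + 1)} [AddCommGroup M]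
    (ℓ : ℕ) [Fact ℓ.Prime] [Module (ZMod ℓ) M] (hM : ∀ m : M, ℓ • m = 0) (p : (stkConst f q ζ).obj (AddCommGrpCat.of M)) :
    p ∈ AddSubgroup.closure (⋃ m : M, Set.range ((stkConst f q ζ).map (bMap ℓ hM m))) := by
  classical
  let B := Module.Basis.ofVectorSpace (ZMod ℓ) M
  let ι := ↥(Module.Basis.ofVectorSpaceIndex (ZMod ℓ) M)
  let Z := AddCommGrpCat.of (ULift.{u + 1} (ZMod ℓ))
  let c := constantSheaf X.smallEtaleTopology AddCommGrpCat.{u + 1}
  let terminalTop : IsTerminal (EtCoh.top X) := EtCore.topIsTerminal X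
  haveI : c.IsLeftAdjoint := (constantSheafAdj X.smallEtaleTopology AddCommGrpCat.{u + 1} terminalTop).isLeftAdjoint
  let D : ι → AddCommGrpCat.{u + 1} := fun _ => Z
  let π₀ : ∐ D ⟶ AddCommGrpCat.of M := Sigma.desc fun j => bMap ℓ hM (B j)
  let s : AddCommGrpCat.of M ⟶ ∐ D := AddCommGrpCat.ofHom
    ((Finsupp.liftAddHom fun j => (Sigma.ι D j).hom.comp AddEquiv.ulift.symm.toAddMonoidHom).comp
      B.repr.toAddEquiv.toAddMonoidHom)
  have hs : s ≫ π₀ = 𝟙 _ := by
    have e : (π₀.hom.comp (Finsupp.liftAddHom fun j => (Sigma.ι D j).hom.comp AddEquiv.ulift.symm.toAddMonoidHom)) =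
        B.repr.symm.toAddEquiv.toAddMonoidHom := by
      refine Finsupp.addHom_ext fun j z => ?_
      show π₀ (Finsupp.liftAddHom (fun i => (Sigma.ι D i).hom.comp AddEquiv.ulift.symm.toAddMonoidHom)
        (Finsupp.single j z)) = B.repr.symm (Finsupp.single j z)
      rw [Finsupp.liftAddHom_apply_single, Module.Basis.repr_symm_single]
      show π₀ (Sigma.ι D j (ULift.up z)) = _
      rw [← ConcreteCategory.comp_apply, Sigma.ι_desc, ← ZMod.natCast_zmod_val z,
        show (ULift.up ((z.val : ℕ) : ZMod ℓ) : ULift.{u + 1} (ZMod ℓ)) = z.val • ULift.up (1 : ZMod ℓ) from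
          ULift.ext _ _ (nsmul_one _).symm, map_nsmul, bMap_one, ← Nat.cast_smul_eq_nsmul (ZMod ℓ)]
    ext m
    exact (DFunLike.congr_fun e (B.repr m)).trans (B.repr.symm_apply_apply m)
  haveI : IsSplitEpi π₀ := IsSplitEpi.mk' ⟨s, hs⟩
  let A := fun j => c.obj (D j)
  let F := EtCoh.Rpush f q
  let g : (∐ fun j => F.obj (A j)) ⟶ F.obj (c.obj (AddCommGrpCat.of M)) :=
    Sigma.desc fun j => F.map (c.map (bMap ℓ hM (B j)))
  haveI : Epi g := by
    haveI := epi_Rpush_sigma f q A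
    rw [show g = Sigma.desc (fun j => F.map (Sigma.ι A j)) ≫ F.map (sigmaComparison c D ≫ c.map π₀) from
      Sigma.hom_ext _ _ fun j => by
        rw [Sigma.ι_desc, Sigma.ι_desc_assoc, ← Functor.map_comp, ι_comp_sigmaComparison_assoc, ← Functor.map_comp,
          Sigma.ι_desc]]
    rw [Functor.map_comp]
    infer_instance
  let K := AddSubgroup.closure (⋃ m : M, Set.range ((stkConst f q ζ).map (bMap ℓ hM m)))
  let S' := stk (A := AddCommGrpCat.{u + 1}) ζ
  let Q : S'.obj (F.obj (c.obj (AddCommGrpCat.of M))) ⟶ AddCommGrpCat.of (_ ⧸ K) :=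
    AddCommGrpCat.ofHom (QuotientAddGroup.mk' K)
  have hQ : S'.map g ≫ Q = 0 := by
    refine (isColimitOfPreserves S' (coproductIsCoproduct fun j => F.obj (A j))).hom_ext fun j => ?_
    show S'.map (Sigma.ι (fun i => F.obj (A i)) j.as) ≫ S'.map g ≫ Q = S'.map (Sigma.ι (fun i => F.obj (A i)) j.as) ≫ (0 : _ ⟶ AddCommGrpCat.of (_ ⧸ K))
    rw [comp_zero, ← Functor.map_comp_assoc, Sigma.ι_desc]
    ext v
    exact (QuotientAddGroup.eq_zero_iff _).2 (AddSubgroup.subset_closure (Set.mem_iUnion.2 ⟨B j.as, v, rfl⟩))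
  have h0 : Q = 0 := zero_of_epi_comp _ hQ
  exact (QuotientAddGroup.eq_zero_iff p).1 (congrArg (fun t : S'.obj (F.obj (c.obj (AddCommGrpCat.of M))) ⟶
    AddCommGrpCat.of (_ ⧸ K) => t p) h0)

/-- Stalks of the higher direct images of a constant sheaf of `ℤ/ℓ`-vector spaces. -/
theorem bijective_stkConst {X S : Scheme.{u}} (f : X ⟶ S) [QuasiCompact f] [QuasiSeparated f] (q : ℕ)
    {Ω : Type u} [Field Ω] [IsSepClosed Ω] (ζ : Spec (CommRingCat.of Ω) ⟶ S) {M : Type (u + 1)} [AddCommGroup M]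
    (ℓ : ℕ) [Fact ℓ.Prime] (hM : ∀ m : M, ℓ • m = 0) :
    Function.Bijective (tensorMap ℓ hM (stkConst f q ζ)) :=
  @bijective_tensorMap_of_module M _ ℓ hM (stkConst f q ζ) _ _ (AddCommGroup.zmodModule hM)
    (fun p => @mem_closure_stkConst_of_module _ _ f _ _ q _ _ _ ζ M _ ℓ _ (AddCommGroup.zmodModule hM) hM p)

end EtCurveConsLib
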