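import Groth.Agent.EtCurveConsLib.Main
import Groth.Agent.EtCurveConsLib.ModForget
import Groth.Agent.EtCurveConsLib.SumGen

/-!
# Constructibility of higher direct images of constant sheaves of modules
-/

set_option autoImplicit false
set_option linter.all false
set_option backward.isDefEq.respectTransparency false
set_option backward.isDefEq.respectTransparency.types false
set_option synthInstance.maxHeartbeats 400000
set_option maxHeartbeats 1000000

universe u

open CategoryTheory CategoryTheory.Limits AlgebraicGeometry Opposite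
open Groth.Agent Groth.Agent.EtShLib
open scoped TensorProduct

attribute [local instance] EtSliceLib.pullExact

noncomputable section

namespace EtCurveConsLib

variable {Λ : Type (u + 1)} [CommRing Λ] {X S : Scheme.{u}} (f : X ⟶ S) (q : ℕ)

/-- Underlying abelian sheaves of higher direct images of constant sheaves of modules. -/
def thetaNat : constantSheaf X.smallEtaleTopology (ModuleCat.{u + 1} Λ) ⋙ EtModW.Rpush Λ f q ⋙ EtModD.forgetToAb Λ S ≅
    Groth.Agent.EpsLib.UF Λ ⋙ constantSheaf X.smallEtaleTopology AddCommGrpCat.{u + 1} ⋙ EtCoh.Rpush f q :=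
  Functor.isoWhiskerLeft (constantSheaf X.smallEtaleTopology (ModuleCat.{u + 1} Λ)) (forgetRpushIso Λ f q) ≪≫
    (Functor.associator _ _ _).symm ≪≫ Functor.isoWhiskerRight (forgetConstIso Λ X) (EtCoh.Rpush f q) ≪≫
    Functor.associator _ _ _

variable (ℓ : ℕ) {M : ModuleCat.{u + 1} Λ} (hM : ∀ m : M, ℓ • m = 0)

/-- The map `R^q f_* ℤ/ℓ → R^q f_* M` attached to an element. -/
def wMap (m : M) : (EtCoh.Rpush f q).obj (EtCoh.const X (ZMod ℓ)) ⟶
    (EtModD.forgetToAb Λ S).obj ((EtModW.Rpush Λ f q).obj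
      ((constantSheaf X.smallEtaleTopology (ModuleCat.{u + 1} Λ)).obj M)) :=
  (EtCoh.Rpush f q).map ((constantSheaf X.smallEtaleTopology AddCommGrpCat.{u + 1}).map (bMap ℓ hM m)) ≫
    (thetaNat (Λ := Λ) f q).inv.app M

theorem wMap_add (m n : M) : wMap f q ℓ hM (m + n) = wMap f q ℓ hM m + wMap f q ℓ hM n := by
  haveI : PreservesFiniteLimits (constantSheaf X.smallEtaleTopology AddCommGrpCat.{u + 1}) := by
    dsimp only [constantSheaf]; infer_instance
  haveI : (constantSheaf X.smallEtaleTopology AddCommGrpCat.{u + 1}).Additive :=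
    Functor.additive_of_preserves_binary_products _
  haveI : (EtCoh.push f).Additive := { }
  simp only [wMap]
  rw [bMap_add, Functor.map_add, Functor.map_add, Preadditive.add_comp]

theorem wMap_smul (lam : Λ) (m : M) : wMap f q ℓ hM (lam • m) = wMap f q ℓ hM m ≫
    (EtModD.forgetToAb Λ S).map ((smulNat Λ lam S).app ((EtModW.Rpush Λ f q).obj
      ((constantSheaf X.smallEtaleTopology (ModuleCat.{u + 1} Λ)).obj M))) := by
  let σ : M ⟶ M := ModuleCat.ofHom (lam • (LinearMap.id : M →ₗ[Λ] M))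
  have hb : bMap ℓ hM (lam • m) = bMap ℓ hM m ≫ (Groth.Agent.EpsLib.UF Λ).map σ := zmod_hom_ext ℓ (by
    show bMap ℓ hM (lam • m) (ULift.up 1) = (Groth.Agent.EpsLib.UF Λ).map σ (bMap ℓ hM m (ULift.up 1))
    rw [bMap_one, bMap_one]
    rfl)
  have hs : (EtModW.Rpush Λ f q).map ((constantSheaf X.smallEtaleTopology (ModuleCat.{u + 1} Λ)).map σ) =
      (smulNat Λ lam S).app _ := by
    rw [constMod_smulNat]
    exact Rpush_smulNat Λ lam f q _
  have hn := (thetaNat (Λ := Λ) f q).inv.naturality σ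
  simp only [Functor.comp_map] at hn
  rw [hs] at hn
  simp only [wMap, Category.assoc]
  rw [hb]
  refine Eq.trans ?_ (congrArg (_ ≫ ·) hn)
  refine Eq.trans ?_ (Category.assoc _ _ _)
  refine congrArg (· ≫ _) ?_
  exact (congrArg ((EtCoh.Rpush f q).map) ((constantSheaf X.smallEtaleTopology AddCommGrpCat.{u + 1}).map_comp _ _)).trans
    ((EtCoh.Rpush f q).map_comp _ _)

variable {T : Scheme.{u}} (g : T ⟶ S)

/-- The same on a stratum. -/
def wMapT (m : M) : (EtCoh.pull g).obj ((EtCoh.Rpush f q).obj (EtCoh.const X (ZMod ℓ))) ⟶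
    (EtModD.forgetToAb Λ T).obj ((EtModW.pull Λ g).obj ((EtModW.Rpush Λ f q).obj
      ((constantSheaf X.smallEtaleTopology (ModuleCat.{u + 1} Λ)).obj M))) :=
  (EtCoh.pull g).map (wMap f q ℓ hM m) ≫ EtModPBCLib.alpha Λ g _

theorem wMapT_add (m n : M) : wMapT f q ℓ hM g (m + n) = wMapT f q ℓ hM g m + wMapT f q ℓ hM g n := by
  haveI : (EtCoh.pull g).Additive := (EtCoh.pullPushAdj g).left_adjoint_additive
  simp only [wMapT]
  rw [wMap_add, Functor.map_add, Preadditive.add_comp]

theorem wMapT_smul (lam : Λ) (m : M) : wMapT f q ℓ hM g (lam • m) = wMapT f q ℓ hM g m ≫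
    (EtModD.forgetToAb Λ T).map ((smulNat Λ lam T).app ((EtModW.pull Λ g).obj ((EtModW.Rpush Λ f q).obj
      ((constantSheaf X.smallEtaleTopology (ModuleCat.{u + 1} Λ)).obj M)))) := by
  simp only [wMapT, Category.assoc]
  rw [wMap_smul, Functor.map_comp, Category.assoc]
  refine congrArg (_ ≫ ·) ?_
  exact (EtModPBCLib.alpha_natural Λ g _).trans
    (congrArg (fun z => EtModPBCLib.alpha Λ g _ ≫ (EtModD.forgetToAb Λ T).map z) (pull_smulNat Λ lam g _))

/-- The value map on a stratum. -/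
def etaMap (U : T.Etale) {V : AddCommGrpCat.{u + 1}}
    (η : V ⟶ ((EtCoh.pull g).obj ((EtCoh.Rpush f q).obj (EtCoh.const X (ZMod ℓ)))).obj.obj (op U)) :
    ModuleCat.of Λ (M ⊗[ℤ] V) ⟶ ((EtModW.pull Λ g).obj ((EtModW.Rpush Λ f q).obj
      ((constantSheaf X.smallEtaleTopology (ModuleCat.{u + 1} Λ)).obj M))).obj.obj (op U) :=
  let φ : M ⊗[ℤ] V →+ _ := TensorProduct.liftAddHom
    (AddMonoidHom.mk' (fun m => ((wMapT f q ℓ hM g m).hom.app (op U)).hom.comp η.hom) (fun m n => by
      rw [wMapT_add]; rfl))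
    (fun k m v => by
      show (wMapT f q ℓ hM g (k • m)).hom.app (op U) (η v) = (wMapT f q ℓ hM g m).hom.app (op U) (η (k • v))
      rw [map_zsmul, map_zsmul]
      exact DFunLike.congr_fun (map_zsmul (AddMonoidHom.mk' (fun m => ((wMapT f q ℓ hM g m).hom.app (op U)).hom.comp η.hom)
        (fun m n => by rw [wMapT_add]; rfl)) k m) v)
  ModuleCat.ofHom
    { toFun := φ
      map_add' := map_add φ
      map_smul' := fun lam x => by
        induction x using TensorProduct.induction_on with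
        | zero => rw [smul_zero, map_zero]; exact (smul_zero _).symm
        | tmul m v =>
          rw [TensorProduct.smul_tmul']
          show (wMapT f q ℓ hM g (lam • m)).hom.app (op U) (η v) = _
          rw [wMapT_smul]
          rfl
        | add x y hx hy =>
          rw [smul_add, map_add, hx, hy, map_add]
          exact (smul_add _ _ _).symm }

theorem etaMap_tmul (U : T.Etale) {V : AddCommGrpCat.{u + 1}}
    (η : V ⟶ ((EtCoh.pull g).obj ((EtCoh.Rpush f q).obj (EtCoh.const X (ZMod ℓ)))).obj.obj (op U)) (m : M) (v : V) :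
    etaMap f q ℓ hM g U η (m ⊗ₜ[ℤ] v) = (wMapT f q ℓ hM g m).hom.app (op U) (η v) := rfl

variable [QuasiCompact f] [QuasiSeparated f]

theorem isCst_etaMap [Fact ℓ.Prime] (U : T.Etale) {V : AddCommGrpCat.{u + 1}}
    (η : V ⟶ ((EtCoh.pull g).obj ((EtCoh.Rpush f q).obj (EtCoh.const X (ZMod ℓ)))).obj.obj (op U))
    (hη : IsCst (A := AddCommGrpCat.{u + 1}) ((EtCoh.pull g).obj ((EtCoh.Rpush f q).obj (EtCoh.const X (ZMod ℓ)))) U η) :
    IsCst (A := ModuleCat.{u + 1} Λ) ((EtModW.pull Λ g).obj ((EtModW.Rpush Λ f q).obj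
      ((constantSheaf X.smallEtaleTopology (ModuleCat.{u + 1} Λ)).obj M))) U (etaMap f q ℓ hM g U η) := by
  intro Ω _ _ ξ x
  haveI := hη Ω ξ x
  let G := (EtCoh.Rpush f q).obj (EtCoh.const X (ZMod ℓ))
  let FM := (EtModW.Rpush Λ f q).obj ((constantSheaf X.smallEtaleTopology (ModuleCat.{u + 1} Λ)).obj M)
  let FT := (EtModW.pull Λ g).obj FM
  let FA := (EtModD.forgetToAb Λ T).obj FT
  let S₀ := stk (A := AddCommGrpCat.{u + 1}) ξ
  let β := stalkPull g ξ AddCommGrpCat.{u + 1}
  let P := stkConst f q (ξ ≫ g)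
  haveI := EtModPBCLib.isIso_alpha Λ g FM
  let K : P.obj (AddCommGrpCat.of M) ⟶ S₀.obj FA :=
    (stk (A := AddCommGrpCat.{u + 1}) (ξ ≫ g)).map ((thetaNat (Λ := Λ) f q).inv.app M) ≫ β.hom.app _ ≫
      S₀.map (EtModPBCLib.alpha Λ g FM)
  haveI : IsIso K := inferInstance
  let u₀ : V ⟶ P.obj (AddCommGrpCat.of (ULift.{u + 1} (ZMod ℓ))) :=
    η ≫ germ (A := AddCommGrpCat.{u + 1}) ξ _ U x ≫ β.inv.app G
  haveI : IsIso u₀ := by
    show IsIso (η ≫ germ (A := AddCommGrpCat.{u + 1}) ξ _ U x ≫ β.inv.app G)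
    rw [← Category.assoc]
    infer_instance
  let e₀ : V ≃ₗ[ℤ] P.obj (AddCommGrpCat.of (ULift.{u + 1} (ZMod ℓ))) := (asIso u₀).addCommGroupIsoToAddEquiv.toIntLinearEquiv
  have key : ∀ t : M ⊗[ℤ] V, germ (A := AddCommGrpCat.{u + 1}) ξ FA U x (etaMap f q ℓ hM g U η t) =
      K (tensorMap ℓ hM P (TensorProduct.congr (LinearEquiv.refl ℤ M) e₀ t)) := fun t => by
    induction t using TensorProduct.induction_on with
    | zero => simp only [map_zero]
    | tmul m v =>
      rw [TensorProduct.congr_tmul, tensorMap_tmul, etaMap_tmul]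
      refine (germ_natural_apply (A := AddCommGrpCat.{u + 1}) ξ (wMapT f q ℓ hM g m) U x (η v)).symm.trans ?_
      have hmap : S₀.map (wMapT f q ℓ hM g m) = β.inv.app G ≫ P.map (bMap ℓ hM m) ≫ K := by
        simp only [wMapT, Functor.map_comp]
        rw [← cancel_epi (β.hom.app G)]
        rw [Iso.hom_inv_id_app_assoc]
        refine (Category.assoc _ _ _).symm.trans ((congrArg (· ≫ _) (β.hom.naturality (wMap f q ℓ hM m)).symm).trans ?_)
        simp only [wMap, Functor.map_comp, Category.assoc]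
        rfl
      exact congrArg (fun z : S₀.obj _ ⟶ S₀.obj FA => z (germ (A := AddCommGrpCat.{u + 1}) ξ _ U x (η v))) hmap
    | add a b ha hb => simp only [map_add, ← ha, ← hb]
  have hbij : Function.Bijective fun t : M ⊗[ℤ] V =>
      germ (A := AddCommGrpCat.{u + 1}) ξ FA U x (etaMap f q ℓ hM g U η t) := by
    rw [funext key]
    exact ((ConcreteCategory.isIso_iff_bijective K).1 inferInstance).comp
      ((bijective_stkConst f q (ξ ≫ g) ℓ hM).comp (TensorProduct.congr (LinearEquiv.refl ℤ M) e₀).bijective)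
  rw [ConcreteCategory.isIso_iff_bijective]
  refine ⟨fun a b h => hbij.1 ((EtModPBCLib.germ_eq_iff_forget Λ ξ FT U U x x _ _).1 h), fun p => ?_⟩
  obtain ⟨W, w, s, rfl⟩ := exists_germ (A := ModuleCat.{u + 1} Λ) (ξ := ξ) p
  obtain ⟨t, ht⟩ := hbij.2 (germ (A := AddCommGrpCat.{u + 1}) ξ FA W w s)
  exact ⟨t, (EtModPBCLib.germ_eq_iff_forget Λ ξ FT U W x w _ s).2 ht⟩

theorem finite_tensor [Module.Finite Λ M] (V : AddCommGrpCat.{u + 1}) [Finite V] : Module.Finite Λ (M ⊗[ℤ] V) := by
  classical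
  haveI := Fintype.ofFinite V
  obtain ⟨s, hs⟩ := (Module.Finite.fg_top (R := Λ) (M := M))
  refine ⟨(s ×ˢ (Finset.univ : Finset V)).image (fun p => p.1 ⊗ₜ[ℤ] p.2), eq_top_iff.2 fun x hx => ?_⟩
  clear hx
  induction x using TensorProduct.induction_on with
  | zero => exact zero_mem _
  | tmul m v =>
    have hm : m ∈ Submodule.span Λ (s : Set M) := hs ▸ Submodule.mem_top
    induction hm using Submodule.span_induction with
    | mem a ha => exact Submodule.subset_span (Finset.mem_coe.2 (Finset.mem_image.2 ⟨(a, v), Finset.mem_product.2 ⟨ha, Finset.mem_univ _⟩, rfl⟩))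
    | zero => rw [TensorProduct.zero_tmul]; exact zero_mem _
    | add a b _ _ ha hb => rw [TensorProduct.add_tmul]; exact add_mem ha hb
    | smul r a _ ha => rw [← TensorProduct.smul_tmul']; exact Submodule.smul_mem _ r ha
  | add a b ha hb => exact add_mem ha hb

include hM in
/-- Constructibility for coefficients killed by a prime. -/
theorem isCons_of_killed [Fact ℓ.Prime] [Module.Finite Λ M]
    (hG : EtPBC.IsConstructible ((EtCoh.Rpush f q).obj (EtCoh.const X (ZMod ℓ)))) :
    EtModW.IsConstructible Λ ((EtModW.Rpush Λ f q).obj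
      ((constantSheaf X.smallEtaleTopology (ModuleCat.{u + 1} Λ)).obj M)) := by
  refine (isConstructibleMod_iff _).2 fun W hW => ?_
  obtain ⟨n, T, g, h1, h2, h3, h4, h5⟩ := (isConstructible_iff _).1 hG W hW
  refine ⟨n, T, g, h1, h2, h3, h4, fun i x => ?_⟩
  obtain ⟨U, y, V, η, hy, hV, hη⟩ := h5 i x
  haveI : Finite V := hV
  exact ⟨U, y, ModuleCat.of Λ (M ⊗[ℤ] V), etaMap f q ℓ hM (g i) U η, hy, finite_tensor V,
    isCst_etaMap f q ℓ hM (g i) U η hη⟩

omit [QuasiCompact f] [QuasiSeparated f] in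
/-- The middle term of an exact sequence of higher direct images. -/
theorem isCons_middle [IsNoetherianRing Λ] {U : ShortComplex (EtModW.Mod Λ X)} (hU : U.ShortExact)
    (h₁ : ∀ i, EtModW.IsConstructible Λ ((EtModW.Rpush Λ f i).obj U.X₁))
    (h₃ : ∀ i, EtModW.IsConstructible Λ ((EtModW.Rpush Λ f i).obj U.X₃)) :
    EtModW.IsConstructible Λ ((EtModW.Rpush Λ f q).obj U.X₂) := by
  haveI := push_pfl Λ f
  let D := EtCechInjLib.derDelta (EtModW.push Λ f)
  have c₁ := fun i => (isConstructibleMod_iff _).1 (h₁ i)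
  have c₃ := fun i => (isConstructibleMod_iff _).1 (h₃ i)
  let a := (EtModW.Rpush Λ f q).map U.f
  let b := (EtModW.Rpush Λ f q).map U.g
  have hab : a ≫ b = 0 := by rw [← Functor.map_comp, U.zero, Functor.map_zero]
  have hex : (ShortComplex.mk a b hab).Exact := D.exact₂ hU q
  have h'₃ := D.exact₃ hU q
  have hb0 : b ≫ D.δ hU q = 0 := D.map_comp_δ hU q
  let K₃ := kernel (D.δ hU q)
  let b' : _ ⟶ K₃ := kernel.lift (D.δ hU q) b hb0
  haveI : Epi b' := (ShortComplex.mk b (D.δ hU q) hb0).exact_iff_epi_kernel_lift.1 h'₃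
  have hk : IsCons (A := ModuleCat.{u + 1} Λ) FinMP K₃ := consMod_kernel (D.δ hU q) (c₃ q) (c₁ (q + 1))
  cases q with
  | zero =>
    have haι : a ≫ b' = 0 := by rw [← cancel_mono (kernel.ι _), Category.assoc, kernel.lift_ι, hab, zero_comp]
    let R : ShortComplex (EtModW.Mod Λ S) := ShortComplex.mk a b' haι
    haveI : Mono a := D.mono₀ hU
    let φ : R ⟶ ShortComplex.mk a b hab :=
      ⟨𝟙 _, 𝟙 _, kernel.ι _, (Category.id_comp _).trans (Category.comp_id _).symm,
        (Category.id_comp _).trans (kernel.lift_ι _ _ _).symm⟩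
    haveI : Epi φ.τ₁ := inferInstanceAs (Epi (𝟙 _))
    haveI : IsIso φ.τ₂ := inferInstanceAs (IsIso (𝟙 _))
    haveI : Mono φ.τ₃ := inferInstanceAs (Mono (kernel.ι _))
    exact (isConstructibleMod_iff _).2 (consMod_extension (S := R)
      { exact := (ShortComplex.exact_iff_of_epi_of_isIso_of_mono φ).2 hex } (c₁ 0) hk)
  | succ p =>
    have hd0 : D.δ hU p ≫ a = 0 := D.δ_comp_map hU p
    let a' := cokernel.desc (D.δ hU p) a hd0
    haveI : Mono a' := (ShortComplex.mk (D.δ hU p) a hd0).exact_iff_mono_cokernel_desc.1 (D.exact₁ hU p)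
    have hab' : a' ≫ b = 0 := by rw [← cancel_epi (cokernel.π (D.δ hU p)), cokernel.π_desc_assoc, hab, comp_zero]
    have haι : a' ≫ b' = 0 := by rw [← cancel_mono (kernel.ι _), Category.assoc, kernel.lift_ι, hab', zero_comp]
    let R : ShortComplex (EtModW.Mod Λ S) := ShortComplex.mk a' b' haι
    let R' : ShortComplex (EtModW.Mod Λ S) := ShortComplex.mk a' b hab'
    let ψ : ShortComplex.mk a b hab ⟶ R' :=
      ⟨cokernel.π _, 𝟙 _, 𝟙 _, (cokernel.π_desc _ _ _).trans (Category.comp_id _).symm,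
        (Category.id_comp _).trans (Category.comp_id _).symm⟩
    haveI : Epi ψ.τ₁ := inferInstanceAs (Epi (cokernel.π _))
    haveI : IsIso ψ.τ₂ := inferInstanceAs (IsIso (𝟙 _))
    haveI : Mono ψ.τ₃ := inferInstanceAs (Mono (𝟙 _))
    have hR' := (ShortComplex.exact_iff_of_epi_of_isIso_of_mono ψ).1 hex
    let φ : R ⟶ R' :=
      ⟨𝟙 _, 𝟙 _, kernel.ι _, (Category.id_comp _).trans (Category.comp_id _).symm,
        (Category.id_comp _).trans (kernel.lift_ι _ _ _).symm⟩
    haveI : Epi φ.τ₁ := inferInstanceAs (Epi (𝟙 _))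
    haveI : IsIso φ.τ₂ := inferInstanceAs (IsIso (𝟙 _))
    haveI : Mono φ.τ₃ := inferInstanceAs (Mono (kernel.ι _))
    exact (isConstructibleMod_iff _).2 (consMod_extension (S := R)
      { exact := (ShortComplex.exact_iff_of_epi_of_isIso_of_mono φ).2 hR' }
      (consMod_cokernel (D.δ hU p) (c₃ p) (c₁ (p + 1))) hk)

omit [QuasiCompact f] [QuasiSeparated f] in
theorem preservesFiniteLimits_constMod (X : Scheme.{u}) :
    PreservesFiniteLimits (constantSheaf X.smallEtaleTopology (ModuleCat.{u + 1} Λ)) ∧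
      PreservesFiniteColimits (constantSheaf X.smallEtaleTopology (ModuleCat.{u + 1} Λ)) := by
  refine ⟨by dsimp only [constantSheaf]; infer_instance, ?_⟩
  haveI := (constantSheafAdj X.smallEtaleTopology (ModuleCat.{u + 1} Λ) (EtCore.topIsTerminal X)).leftAdjoint_preservesColimits
  infer_instance

/-- Constructibility for finite modules killed by a positive integer. -/
theorem isCons_of_torsion [IsNoetherianRing Λ]
    (hG : ∀ (ℓ : ℕ) [Fact ℓ.Prime] (i : ℕ), EtPBC.IsConstructible ((EtCoh.Rpush f i).obj (EtCoh.const X (ZMod ℓ)))) :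
    ∀ (n : ℕ), 0 < n → ∀ (M : ModuleCat.{u + 1} Λ), Module.Finite Λ M → (∀ m : M, n • m = 0) → ∀ i : ℕ,
      EtModW.IsConstructible Λ ((EtModW.Rpush Λ f i).obj
        ((constantSheaf X.smallEtaleTopology (ModuleCat.{u + 1} Λ)).obj M)) := by
  intro n
  induction n using Nat.strong_induction_on with
  | _ n ih =>
    intro hn M hM hnM i
    haveI := hM
    rcases (show n = 1 ∨ 2 ≤ n by omega) with h1 | h1
    · haveI : Fact (Nat.Prime 2) := ⟨Nat.prime_two⟩
      exact isCons_of_killed f i 2 (M := M) (fun m => by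
        have : m = 0 := by have := hnM m; rwa [h1, one_smul] at this
        rw [this, smul_zero]) (hG 2 i)
    obtain ⟨p, hp, d, rfl⟩ := (Nat.exists_prime_and_dvd (show n ≠ 1 by omega))
    haveI : Fact p.Prime := ⟨hp⟩
    have hd : 0 < d := Nat.pos_of_mul_pos_left hn
    have hlt : d < p * d := lt_mul_of_one_lt_left hd hp.one_lt
    let N : Submodule Λ M := LinearMap.range ((p : Λ) • (LinearMap.id : M →ₗ[Λ] M))
    haveI : IsNoetherian Λ M := isNoetherian_of_isNoetherianRing_of_finite Λ M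
    let U₀ : ShortComplex (ModuleCat.{u + 1} Λ) := ShortComplex.mk (ModuleCat.ofHom N.subtype) (ModuleCat.ofHom N.mkQ)
      (ModuleCat.hom_ext (LinearMap.ext fun x => (Submodule.Quotient.mk_eq_zero N).2 x.2))
    have hU₀ : U₀.ShortExact :=
      { exact := (ShortComplex.moduleCat_exact_iff_range_eq_ker U₀).2 ((Submodule.range_subtype N).trans N.ker_mkQ.symm)
        mono_f := (ModuleCat.mono_iff_injective _).2 N.injective_subtype
        epi_g := (ModuleCat.epi_iff_surjective _).2 N.mkQ_surjective }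
    haveI := (preservesFiniteLimits_constMod (Λ := Λ) X).1
    haveI := (preservesFiniteLimits_constMod (Λ := Λ) X).2
    haveI : (constantSheaf X.smallEtaleTopology (ModuleCat.{u + 1} Λ)).Additive :=
      Functor.additive_of_preserves_binary_products _
    refine isCons_middle f i (hU₀.map_of_exact (constantSheaf X.smallEtaleTopology (ModuleCat.{u + 1} Λ))) ?_ ?_
    · refine ih d hlt hd U₀.X₁ (inferInstanceAs (Module.Finite Λ N)) ?_
      rintro ⟨_, m, rfl⟩
      refine Subtype.ext ?_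
      show d • ((p : Λ) • m) = 0
      rw [Nat.cast_smul_eq_nsmul, ← mul_smul, mul_comm]
      exact hnM m
    · intro j
      refine isCons_of_killed f j p (M := U₀.X₃) ?_ (hG p j)
      intro m
      obtain ⟨m, rfl⟩ := N.mkQ_surjective m
      show p • N.mkQ m = 0
      rw [← map_nsmul]
      exact (Submodule.Quotient.mk_eq_zero N).2 ⟨m, Nat.cast_smul_eq_nsmul Λ p m⟩

end EtCurveConsLib
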