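import Groth.Agent.EtCurveConsLib.Spec
import Groth.Agent.EtCurveConsLib.Criterion
import Groth.Agent.EtCurveConsLib.Fibre
import Groth.Agent.AnLib.Closure
import Groth.Agent.S3116

/-!
# Constructibility of the higher direct images of `ℤ/ℓ` along a family of curves over a Noetherian base
-/

set_option autoImplicit false
set_option linter.all false
set_option backward.isDefEq.respectTransparency false
set_option backward.isDefEq.respectTransparency.types false
set_option synthInstance.maxHeartbeats 400000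
set_option maxHeartbeats 2000000

universe u

open CategoryTheory CategoryTheory.Limits AlgebraicGeometry Opposite CategoryTheory.Abelian
open Groth.Agent Groth.Agent.EtShLib Topology

attribute [local instance] EtSliceLib.pullExact

noncomputable section

namespace EtCurveConsLib

variable {X S : Scheme.{u}} (f : X ⟶ S) [IsProper f] [Smooth f]
  (hconn : ∀ (Ω : Type u) [Field Ω] [IsAlgClosed Ω] (s : Spec (CommRingCat.of Ω) ⟶ S),
    ConnectedSpace ↥(pullback f s))
  (hdim : ∀ (Ω : Type u) [Field Ω] [IsAlgClosed Ω] (s : Spec (CommRingCat.of Ω) ⟶ S),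
    topologicalKrullDim ↥(pullback f s) = 1)

omit [Smooth f] in
include hdim in
theorem dim_fibre {Ω : Type u} [Field Ω] (ξ : Spec (CommRingCat.of Ω) ⟶ S) :
    topologicalKrullDim ↥(pullback f ξ) = 1 := by
  rw [← dim_algClosure (pullback.snd f ξ)]
  exact (IsHomeomorph.topologicalKrullDim_eq _
    (Scheme.homeoOfIso (pullbackLeftPullbackSndIso f ξ _)).isHomeomorph).trans (hdim _ _)

include hconn hdim in
theorem card_stalk_two (ℓ : ℕ) [Fact ℓ.Prime] {Ω : Type u} [Field Ω] [IsSepClosed Ω]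
    (ξ : Spec (CommRingCat.of Ω) ⟶ S) :
    ((ℓ : Ω) = 0 → Nat.card ((EtCoh.stalk ξ).obj ((EtCoh.Rpush f 2).obj (EtCoh.const X (ZMod ℓ)))) = 1) ∧
    ((ℓ : Ω) ≠ 0 → Nat.card ((EtCoh.stalk ξ).obj ((EtCoh.Rpush f 2).obj (EtCoh.const X (ZMod ℓ)))) = ℓ) := by
  haveI : NeZero ℓ := ⟨(Fact.out : ℓ.Prime).ne_zero⟩
  obtain ⟨e⟩ := nonempty_stalk_equiv f ℓ 2 ξ
  refine ⟨fun h => ?_, fun h => ?_⟩
  · haveI := subsingleton_H2 (pullback.snd f ξ) (dim_fibre f hdim ξ) ℓ h
    rw [Nat.card_congr e.toEquiv]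
    exact Nat.card_of_subsingleton (0 : EtCoh.H (pullback f ξ) (EtCoh.const (pullback f ξ) (ZMod ℓ)) 2)
  · rw [Nat.card_congr e.toEquiv]
    haveI : Smooth (pullback.snd f ξ) := MorphismProperty.of_isPullback (IsPullback.of_hasPullback f ξ) ‹_›
    refine card_H2 (pullback.snd f ξ) (dim_fibre f hdim ξ) ?_ ℓ h
    exact (Scheme.homeoOfIso (pullbackLeftPullbackSndIso f ξ _)).connectedSpace_iff.2 (hconn _ _)

omit [Smooth f] in
include hdim in
theorem finite_stalk_Rpush (ℓ : ℕ) [NeZero ℓ] (q : ℕ) {Ω : Type u} [Field Ω] [IsSepClosed Ω]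
    (ξ : Spec (CommRingCat.of Ω) ⟶ S) :
    Finite ((EtCoh.stalk ξ).obj ((EtCoh.Rpush f q).obj (EtCoh.const X (ZMod ℓ)))) := by
  obtain ⟨e⟩ := nonempty_stalk_equiv f ℓ q ξ
  haveI := finite_H (pullback.snd f ξ) (dim_fibre f hdim ξ).le ℓ q
  exact Finite.of_equiv _ e.symm.toEquiv

omit [Smooth f] in
include hdim in
theorem dim_fiber (y : S) : topologicalKrullDim (f.fiber y) = 1 := by
  obtain ⟨Ω, _, _, ξ, hξ⟩ := exists_geometric_pt y
  rw [← hξ]
  exact (EtPBCCdLib.dim_pullback_point f ξ).symm.trans (dim_fibre f hdim ξ)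

theorem natCast_residueField_eq_zero_iff (ℓ : ℕ) {Ω : Type u} [Field Ω] (ξ : Spec (CommRingCat.of Ω) ⟶ S) :
    ((ℓ : Ω) = 0) ↔ ((ℓ : S.residueField (ξ.base (IsLocalRing.closedPoint Ω))) = 0) := by
  let φ : S.residueField (ξ.base (IsLocalRing.closedPoint Ω)) →+* Ω :=
    (Scheme.descResidueField (Scheme.stalkClosedPointTo ξ)).hom
  rw [← map_eq_zero φ, map_natCast]

theorem isLocallyConstructible_of_isOpen' {X : Scheme.{u}} [IsLocallyNoetherian X] {T : Set X} (hT : IsOpen T) :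
    Topology.IsLocallyConstructible T := fun x => by
  obtain ⟨U, hU, hxU, -⟩ := exists_isAffineOpen_mem_and_subset (x := x) (U := ⊤) trivial
  refine ⟨U, U.2.mem_nhds hxU, U.2, IsRetrocompact.isConstructible (hT.preimage continuous_subtype_val) ?_⟩
  haveI : IsLocallyNoetherian U.toScheme := isLocallyNoetherian_of_isOpenImmersion U.ι
  haveI : CompactSpace U.toScheme := isCompact_iff_compactSpace.1 hU.isCompact
  haveI : IsNoetherian U.toScheme := {}
  exact fun V _ _ => TopologicalSpace.NoetherianSpace.isCompact (α := U.toScheme) _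

theorem isLocallyConstructible_natCast [IsLocallyNoetherian S] (ℓ : ℕ) :
    Topology.IsLocallyConstructible {x : S | (ℓ : S.residueField x) ≠ 0} := by
  refine isLocallyConstructible_of_isOpen' ?_
  convert (S.basicOpen ((ℓ : Γ(S, ⊤)))).isOpen using 1
  ext x
  show _ ↔ x ∈ S.basicOpen _
  rw [← S.evaluation_ne_zero_iff_mem_basicOpen x (show x ∈ (⊤ : S.Opens) from trivial)]
  show _ ↔ (S.Γevaluation x).hom (ℓ : Γ(S, ⊤)) ≠ 0
  rw [map_natCast]
  rfl

include hconn hdim in
/-- Constructibility over a locally Noetherian base. -/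
theorem isConstructible_of_noetherian [IsLocallyNoetherian S] (ℓ : ℕ) [Fact ℓ.Prime] (q : ℕ) :
    EtPBC.IsConstructible ((EtCoh.Rpush f q).obj (EtCoh.const X (ZMod ℓ))) := by
  have hp : ℓ.Prime := Fact.out
  haveI : NeZero ℓ := ⟨hp.ne_zero⟩
  rcases (by omega : q ≤ 1 ∨ q = 2 ∨ 3 ≤ q) with hq | rfl | hq
  · exact isConstructible_of_exists_mono _ (fun Ω _ _ ξ => finite_stalk_Rpush f hdim ℓ q ξ)
      fun Ω Ω' _ _ _ _ ξ ξ' h => exists_mono_arrow f {ℓ} _ (isLTorsion_const X ℓ hp) (isLocallyConstant_const X ℓ)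
        (isTorsion_const X ℓ) q hq ξ ξ' h
  · refine (Groth.Agent.S3116.result S _ fun Ω _ _ ξ => finite_stalk_Rpush f hdim ℓ 2 ξ).2 fun n => ?_
    have key : {x : S | ∃ (Ω : Type u) (_ : Field Ω) (_ : IsSepClosed Ω) (ξ : Spec (CommRingCat.of Ω) ⟶ S),
        Set.range ξ = {x} ∧ Nat.card ((EtCoh.stalk ξ).obj ((EtCoh.Rpush f 2).obj (EtCoh.const X (ZMod ℓ)))) = n} =
        {x : S | (ℓ : S.residueField x) ≠ 0} ∩ {_x | ℓ = n} ∪ {x : S | (ℓ : S.residueField x) ≠ 0}ᶜ ∩ {_x | 1 = n} := by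
      ext x
      constructor
      · rintro ⟨Ω, _, _, ξ, hξ, hn⟩
        obtain rfl : ξ.base (IsLocalRing.closedPoint Ω) = x := hξ.subset ⟨_, rfl⟩
        by_cases h : (ℓ : Ω) = 0
        · exact Or.inr ⟨fun h' => h' ((natCast_residueField_eq_zero_iff ℓ ξ).1 h),
            ((card_stalk_two f hconn hdim ℓ ξ).1 h).symm.trans hn⟩
        · exact Or.inl ⟨fun h' => h ((natCast_residueField_eq_zero_iff ℓ ξ).2 h'),
            ((card_stalk_two f hconn hdim ℓ ξ).2 h).symm.trans hn⟩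
      · intro hx
        obtain ⟨Ω, _, _, ξ, hξ⟩ := exists_geometric_pt x
        have hp' : ∀ p, ξ.base p = x := fun p => (congrArg ξ.base (Subsingleton.elim p default)).trans hξ
        refine ⟨Ω, inferInstance, inferInstance, ξ, Set.eq_singleton_iff_unique_mem.2 ⟨⟨default, hξ⟩, ?_⟩, ?_⟩
        · rintro _ ⟨p, rfl⟩
          exact hp' p
        · obtain rfl := hp' (IsLocalRing.closedPoint Ω)
          rcases hx with ⟨h, hn⟩ | ⟨h, hn⟩
          · exact ((card_stalk_two f hconn hdim ℓ ξ).2 fun e => h ((natCast_residueField_eq_zero_iff ℓ ξ).1 e)).trans hn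
          · exact ((card_stalk_two f hconn hdim ℓ ξ).1
              ((natCast_residueField_eq_zero_iff ℓ ξ).2 (not_not.1 h))).trans hn
    rw [key]
    have hc : ∀ P : Prop, Topology.IsLocallyConstructible {_x : S | P} := fun P => by
      by_cases hP : P <;> simp [hP]
    exact ((isLocallyConstructible_natCast ℓ).inter (hc _)).union ((AnLib.compl_isLocallyConstructible (isLocallyConstructible_natCast ℓ)).inter (hc _))
  · have hz : IsZero ((EtCoh.Rpush f q).obj (EtCoh.const X (ZMod ℓ))) :=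
      EtPBCCdLib.isZero_Rpush_of_fibre_dim f 1 (fun y => (dim_fiber f hdim y).le) _ (isTorsion_const X ℓ) q (by omega)
    refine isConstructible_of_exists_mono _ (fun Ω _ _ ξ => finite_stalk_Rpush f hdim ℓ q ξ)
      fun Ω Ω' _ _ _ _ ξ ξ' h => ?_
    obtain ⟨φ⟩ := exists_spec_arrow' ξ ξ' h
    exact ⟨φ, IsZero.mono ((EtCoh.stalk ξ).map_isZero hz) _⟩

end EtCurveConsLib
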