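import Groth.Agent.EtCurveConsLib.Acyc
import Groth.Agent.EtPBCProperLib.LocAcyc
import Groth.Agent.EtPBCProperLib.Main
import Groth.Agent.EtPBCProperLib.Stalk
import Groth.Agent.EtBcQLib.Zero
import Groth.Agent.EtShLib.SamePoint
import Groth.Agent.EtShLib.SpecGen

/-!
# Specialisation maps of higher direct images along proper locally 0-acyclic morphisms are injective
in degrees at most one
-/

set_option autoImplicit false
set_option linter.all false
set_option backward.isDefEq.respectTransparency false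
set_option backward.isDefEq.respectTransparency.types false
set_option synthInstance.maxHeartbeats 400000
set_option maxHeartbeats 2000000

universe u

open CategoryTheory CategoryTheory.Limits AlgebraicGeometry Opposite CategoryTheory.Abelian
open Groth.Agent Groth.Agent.EtShLib EtRpushStalkLib

attribute [local instance] EtSliceLib.pullExact

noncomputable section

namespace EtCurveConsLib

theorem isLocallyConstant_pull {X Y : Scheme.{u}} (g : X ⟶ Y) {F : EtCoh.Ab Y} (hF : EtRest.IsLocallyConstant F) :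
    EtRest.IsLocallyConstant ((EtCoh.pull g).obj F) :=
  (isLC_iff _).2 (((isLC_iff F).1 hF).pull (f := g))

theorem exists_gen_lift {S : Scheme.{u}} (s s' : S) (h : s' ⤳ s) (R : Type u) [CommRing R] [IsLocalRing R]
    [Algebra (S.presheaf.stalk s) R] [IsLocalHom (algebraMap (S.presheaf.stalk s) R)]
    [Hensel.IsStrictHenselization (S.presheaf.stalk s) R] :
    ∃ y : Spec (CommRingCat.of R), (Hens2.specOf S s R).base y = s' := by
  haveI : Algebra.WeaklyEtale (S.presheaf.stalk s) R :=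
    Groth.Agent.S0736.result _ _ (Groth.Agent.S12237.result (S.presheaf.stalk s) R)
  haveI : Module.FaithfullyFlat (S.presheaf.stalk s) R := Module.FaithfullyFlat.of_flat_of_isLocalHom
  obtain ⟨p, hp⟩ : s' ∈ Set.range (S.fromSpecStalk s).base := by
    rw [Scheme.range_fromSpecStalk]; exact h
  obtain ⟨y, hy⟩ := PrimeSpectrum.comap_surjective_of_faithfullyFlat (A := S.presheaf.stalk s) (B := R) p
  exact ⟨y, (congrArg (S.fromSpecStalk s).base hy).trans hp⟩

/-- For a proper morphism with 0-acyclic strict localisations, and a locally constant torsion sheaf `F`, some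
specialisation map of `R^q f_* F` between any two geometric points in specialisation position is injective, for
`q ≤ 1`. -/
theorem exists_mono_arrow {X S : Scheme.{u}} (f : X ⟶ S) [IsProper f] [Smooth f] (L : Set ℕ)
    (F : EtCoh.Ab X) (hF : EtAcyc.IsLTorsion L F) (hlc : EtRest.IsLocallyConstant F) (hT : EtCoh.IsTorsion F)
    (q : ℕ) (hq : q ≤ 1) {Ω₁ Ω₂ : Type u} [Field Ω₁] [IsSepClosed Ω₁] [Field Ω₂] [IsSepClosed Ω₂]
    (ζ : Spec (CommRingCat.of Ω₁) ⟶ S) (ξ : Spec (CommRingCat.of Ω₂) ⟶ S)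
    (hsp : ξ.base default ⤳ ζ.base default) :
    ∃ φ : Scheme.pointSmallEtale ξ ⟶ Scheme.pointSmallEtale ζ,
      Mono ((GrothendieckTopology.Point.Hom.sheafFiber (A := AddCommGrpCat.{u + 1}) φ).app
        ((EtCoh.Rpush f q).obj F)) := by
  let s := ζ.base default
  obtain ⟨RS, _, _, _, _, hS⟩ := Groth.Agent.S0537.result (S.presheaf.stalk s)
  haveI := hS
  haveI : HenselianLocalRing RS := hS.henselian
  haveI : IsSepClosed (IsLocalRing.ResidueField RS) := hS.isSepClosure.sep_closed
  let gS := Hens2.specOf S s RS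
  obtain ⟨CS⟩ := EtRpushStalkLib.exists_chart s RS
  obtain ⟨y, hy⟩ := exists_gen_lift s (ξ.base default) hsp RS
  let Ω := AlgebraicClosure ((Spec (CommRingCat.of RS)).residueField y)
  haveI : IsSepClosed (IsLocalRing.ResidueField Ω) := SkySumLib.isSepClosed_residueField_self Ω
  let ψ : Spec (CommRingCat.of Ω) ⟶ Spec (CommRingCat.of RS) := EtAcyc.geomPt (Spec (CommRingCat.of RS)) y Ω
  let ξ₀ : Spec (CommRingCat.of Ω) ⟶ S := ψ ≫ gS
  let bS := pullback.snd f gS
  let aS := pullback.fst f gS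
  let m := pullback.fst bS ψ
  let h := pullback.snd bS ψ
  let e := m ≫ aS
  have sqS : IsPullback aS bS f gS := IsPullback.of_hasPullback f gS
  have c : IsPullback e h f ξ₀ := (IsPullback.of_hasPullback bS ψ).paste_horiz sqS
  haveI : IsProper bS := MorphismProperty.of_isPullback sqS ‹IsProper f›
  haveI : Smooth bS := MorphismProperty.of_isPullback sqS ‹Smooth f›
  haveI : IsProper h := MorphismProperty.of_isPullback c ‹IsProper f›
  have sqX : IsPullback (𝟙 _) h h (𝟙 (Spec (CommRingCat.of Ω))) :=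
    IsPullback.of_horiz_isIso ⟨by rw [Category.id_comp, Category.comp_id]⟩
  let G := (EtCoh.pull aS).obj F
  have hb := EtPBCProperLib.bijective_geomFibre bS (L := L) (n := 0) (isLocAcyclicN_zero_of_smooth bS L) G
    (EtAcycLib.isLTorsion_pull_any aS hF) (isLocallyConstant_pull aS hlc) y Ω
  have hinj : Function.Injective (EtCore.Hpull m G q) := by
    interval_cases q
    · exact (hb.1 0 le_rfl).1
    · exact hb.2
  let a' := e
  have hψ : ψ ≫ gS = 𝟙 _ ≫ ξ₀ := (Category.id_comp _).symm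
  have wm : m ≫ aS = a' := rfl
  have hm : m ≫ bS = h ≫ ψ := pullback.condition
  haveI : IsIso (EtBC.bcQ f ξ₀ h e c.w q F) := EtPBCProperLib.isIso_bcQ ξ₀ f h e c F hT q
  have hfam := congrArg (fun z => z.app F) (EtBcQLib.fam_eq f ξ₀ h e c ψ hψ sqX (EtPBCProperLib.idChart Ω)
    a' (Category.id_comp e) sqS CS m wm hm q)
  haveI hmV : Mono ((EtBcQLib.viaFam m aS a' wm q).app F) := by
    refine (AddCommGrpCat.mono_iff_injective _).2 ?_
    show Function.Injective (EtCore.HpullVia m aS a' wm F q)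
    exact (EtAcycLib.bijective_mk₀_iso_postcomp (Z := EtCoh.const _ ℤ)
      (((EtCore.pullComp m aS).symm ≪≫ EtCore.pullCongr wm).app F) q).1.comp hinj
  haveI hmF : Mono ((EtBcQLib.bcFam f ξ₀ h e c.w gS (closedPt Ω ≫ ψ) (EtBcQLib.hj ξ₀ ψ hψ) sqX
      (EtPBCProperLib.idChart Ω) a' (Category.id_comp e) q).app F) := by
    rw [hfam, NatTrans.comp_app]
    infer_instance
  let π := (EtBcQLib.pi ξ₀ gS (closedPt Ω ≫ 𝟙 _) (closedPt Ω ≫ ψ) (EtBcQLib.hj ξ₀ ψ hψ)).app
    ((EtCoh.Rpush f q).obj F)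
  haveI hπ : Mono π := by
    exact @mono_of_mono _ _ _ _ _ π _ hmF
  let φ₀ := EtBcQLib.ptArrow ξ₀ gS (closedPt Ω ≫ 𝟙 _) (closedPt Ω ≫ ψ) (EtBcQLib.hj ξ₀ ψ hψ)
  haveI hφ₀ : Mono ((GrothendieckTopology.Point.Hom.sheafFiber (A := AddCommGrpCat.{u + 1}) φ₀).app
      ((EtCoh.Rpush f q).obj F)) := by
    haveI : Mono ((GrothendieckTopology.Point.Hom.sheafFiber (A := AddCommGrpCat.{u + 1}) φ₀).app
      ((EtCoh.Rpush f q).obj F) ≫ (stalkPull ξ₀ (closedPt Ω ≫ 𝟙 _) AddCommGrpCat.{u + 1}).hom.app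
        ((EtCoh.Rpush f q).obj F)) := hπ
    exact mono_of_mono _ ((stalkPull ξ₀ (closedPt Ω ≫ 𝟙 _) AddCommGrpCat.{u + 1}).hom.app _)
  have e₁ : (closedPt RS ≫ gS).base default = ζ.base default := by
    show gS.base ((closedPt RS).base default) = s
    refine Eq.trans (congrArg gS.base ?_) (EtStrictAcycLib.specOf_closedPoint S s RS)
    exact SubmDescLib.closedPoint_map (IsLocalRing.residue RS) IsLocalRing.residue_surjective _
  have e₂ : ξ.base default = ((closedPt Ω ≫ 𝟙 _) ≫ ξ₀).base default := by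
    show _ = gS.base (ψ.base _)
    rw [show ψ.base _ = y from Scheme.fromSpecResidueField_apply y _, hy]
  obtain ⟨α⟩ := exists_spec_arrow' ζ (closedPt RS ≫ gS) (e₁ ▸ specializes_rfl)
  obtain ⟨β⟩ := exists_spec_arrow' ((closedPt Ω ≫ 𝟙 _) ≫ ξ₀) ξ (e₂ ▸ specializes_rfl)
  haveI := isIso_sheafFiber_of_eq (A := AddCommGrpCat.{u + 1}) α e₁
  haveI := isIso_sheafFiber_of_eq (A := AddCommGrpCat.{u + 1}) β e₂
  refine ⟨β ≫ φ₀ ≫ α, ?_⟩
  rw [GrothendieckTopology.Point.Hom.sheafFiber_comp, GrothendieckTopology.Point.Hom.sheafFiber_comp]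
  rw [NatTrans.comp_app, NatTrans.comp_app]
  infer_instance

end EtCurveConsLib
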